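import Groth.Agent.L05.Prufer.Coherent
import Groth.Agent.L19.TildeFP
import Groth.Agent.L17.Approx.RestrictFP
import Groth.Agent.L18.LocFreeTilde
import Groth.Agent.L16.CohKernel
import Groth.Agent.L16.QcqsPush
import Groth.Agent.L20.ModStalk
import Mathlib.AlgebraicGeometry.Morphisms.FinitePresentation
import Mathlib.AlgebraicGeometry.Morphisms.Flat

/-!
# Finitely presented modules on flat schemes of finite type over semilocal Prüfer domains
-/

set_option autoImplicit false
set_option linter.style.haveILetI false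
set_option backward.isDefEq.respectTransparency false
set_option backward.isDefEq.respectTransparency.types false

universe u

open CategoryTheory CategoryTheory.Limits AlgebraicGeometry Opposite TopologicalSpace

namespace Groth.L05.Prufer

open Groth.L18.Frame (rs ro rs_rs rs_smul)

variable {X : Scheme.{u}}

/-- A ring is coherent on a scheme if finite submodules of finitely presented modules over the rings of
affine opens are finitely presented. -/
def IsCoherentScheme (X : Scheme.{u}) : Prop :=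
  ∀ (U : X.Opens), IsAffineOpen U → ∀ (M : Type u) [AddCommGroup M] [Module Γ(X, U) M]
    [Module.FinitePresentation Γ(X, U) M] (N : Submodule Γ(X, U) M), N.FG → Module.FinitePresentation Γ(X, U) N

theorem isQCoh_of_isFP {M : X.Modules} (hM : CohB1.IsFP M) : Coh.IsQCoh M := by
  haveI : SheafOfModules.IsFinitePresentation (R := X.ringCatSheaf) M := hM
  exact { nonempty_quasicoherentData := ⟨hM.exists_quasicoherentData.choose⟩ }

/-- The chart of a module with finitely presented sections. -/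
theorem exists_tilde_chart (M : X.Modules) [Coh.IsQCoh M] {V : X.Opens} (hV : IsAffineOpen V)
    (hfp : Module.FinitePresentation Γ(X, V) Γ(M, V)) :
    ∃ N : ModuleCat.{u} Γ(X, V), Module.FinitePresentation Γ(X, V) N ∧ Nonempty (M.restrict hV.fromSpec ≅ tilde N) := by
  haveI : Coh.IsQCoh (M.restrict hV.fromSpec) := Scheme.Modules.isQuasicoherent_restrictFunctor _ M
  haveI : IsIso (M.restrict hV.fromSpec).fromTildeΓ := Scheme.Modules.isIso_fromTildeΓ_of_isQuasicoherent _
  refine ⟨(moduleSpecΓFunctor (R := Γ(X, V))).obj (M.restrict hV.fromSpec), ?_,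
    ⟨(asIso (M.restrict hV.fromSpec).fromTildeΓ).symm⟩⟩
  have e2 : hV.fromSpec ''ᵁ ⊤ = V := by
    rw [Scheme.Hom.image_top_eq_opensRange, hV.opensRange_fromSpec]
  let e : (moduleSpecΓFunctor (R := Γ(X, V))).obj (M.restrict hV.fromSpec) ≃ₗ[Γ(X, V)] Γ(M, V) :=
    { toFun := fun s => rs M e2.ge (show Γ(M, hV.fromSpec ''ᵁ ⊤) from s)
      invFun := fun t => (show Γ(M, hV.fromSpec ''ᵁ ⊤) from rs M e2.le t)
      left_inv := fun s => by
        show rs M e2.le (rs M e2.ge (show Γ(M, hV.fromSpec ''ᵁ ⊤) from s)) = _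
        rw [rs_rs]
        exact Groth.L18.Frame.rs_self M _ _
      right_inv := fun t => by
        show rs M e2.ge (rs M e2.le t) = t
        rw [rs_rs]
        exact Groth.L18.Frame.rs_self M _ _
      map_add' := fun a b => map_add (M.presheaf.map (homOfLE e2.ge).op).hom a b
      map_smul' := fun r s => Groth.L20.ModStalk.finitePresentation_sections_affine.appIso_smul M hV r
        (show Γ(M, hV.fromSpec ''ᵁ ⊤) from s) }
  exact Module.FinitePresentation.of_equiv e.symm

/-- Finite presentation is local on affine opens. -/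
theorem isFP_of_sections (M : X.Modules) [Coh.IsQCoh M]
    (h : ∀ x : X, ∃ (V : X.Opens), IsAffineOpen V ∧ x ∈ V ∧ Module.FinitePresentation Γ(X, V) Γ(M, V)) :
    CohB1.IsFP M := by
  refine Groth.L19.isFP_of_tilde_charts _ fun x => ?_
  obtain ⟨V, hV, hxV, hfp⟩ := h x
  obtain ⟨N, hN, he⟩ := exists_tilde_chart M hV hfp
  exact ⟨_, hV.fromSpec, inferInstance, N, hV.opensRange_fromSpec.ge hxV, hN, he⟩

/-- Kernels of maps of finitely presented modules. -/
theorem isFP_kernel (hX : IsCoherentScheme X) {F G : X.Modules} (hF : CohB1.IsFP F) (hG : CohB1.IsFP G)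
    (φ : F ⟶ G) : CohB1.IsFP (kernel φ) := by
  haveI := isQCoh_of_isFP hF
  haveI := isQCoh_of_isFP hG
  refine Groth.L19.isFP_of_tilde_charts _ fun x => ?_
  obtain ⟨_, ⟨U, hU, rfl⟩, hxU, -⟩ :=
    X.isBasis_affineOpens.exists_subset_of_mem_open (Set.mem_univ x) isOpen_univ
  let j := hU.fromSpec
  obtain ⟨NF, hNF, ⟨eF⟩⟩ := exists_tilde_chart F hU (Groth.L20.ModStalk.finitePresentation_sections F hF hU)
  obtain ⟨NG, hNG, ⟨eG⟩⟩ := exists_tilde_chart G hU (Groth.L20.ModStalk.finitePresentation_sections G hG hU)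
  obtain ⟨l, hl⟩ := (tilde.functor Γ(X, U)).map_surjective
    (eF.inv ≫ (Scheme.Modules.restrictFunctor j).map φ ≫ eG.hom)
  refine ⟨_, j, inferInstance, kernel l, hU.opensRange_fromSpec.ge hxU, ?_, ⟨?_⟩⟩
  · haveI : Module.Finite Γ(X, U) (LinearMap.range l.hom) := Module.Finite.range l.hom
    haveI : Module.FinitePresentation Γ(X, U) (LinearMap.range l.hom) :=
      hX U hU NG _ (Module.Finite.iff_fg.mp inferInstance)
    haveI : Module.FinitePresentation Γ(X, U) (LinearMap.ker l.hom) := by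
      refine hX U hU NF _ ?_
      rw [← LinearMap.ker_rangeRestrict]
      exact Module.FinitePresentation.fg_ker _ l.hom.surjective_rangeRestrict
    exact Module.FinitePresentation.of_equiv (ModuleCat.kernelIsoKer l).toLinearEquiv.symm
  · exact PreservesKernel.iso (Scheme.Modules.restrictFunctor j) φ ≪≫
      kernel.mapIso _ ((tilde.functor _).map l) eF eG (by rw [hl]; simp) ≪≫
      (PreservesKernel.iso (tilde.functor _) l).symm

variable {R : Type u} [CommRing R] [IsDomain R]

theorem finitePresentation_app (hR : IsSemilocalPrufer R) (π : X ⟶ Spec (CommRingCat.of R)) [Flat π]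
    [LocallyOfFiniteType π] {U : X.Opens} (hU : IsAffineOpen U) :
    ((π.appLE ⊤ U le_top).hom.comp (Scheme.ΓSpecIso (CommRingCat.of R)).inv.hom).FinitePresentation := by
  set φ := (π.appLE ⊤ U le_top).hom.comp (Scheme.ΓSpecIso (CommRingCat.of R)).inv.hom
  have hb : Function.Bijective (Scheme.ΓSpecIso (CommRingCat.of R)).inv.hom :=
    ConcreteCategory.bijective_of_isIso (Scheme.ΓSpecIso (CommRingCat.of R)).inv
  have hft : φ.FiniteType := RingHom.FiniteType.comp
    (π.finiteType_appLE (isAffineOpen_top (Spec (CommRingCat.of R))) hU le_top) (RingHom.FiniteType.of_surjective _ hb.2)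
  have hfl : φ.Flat := RingHom.Flat.comp (RingHom.Flat.of_bijective hb)
    (π.flat_appLE (isAffineOpen_top (Spec (CommRingCat.of R))) hU le_top)
  letI := φ.toAlgebra
  haveI : Algebra.FiniteType R Γ(X, U) := hft
  haveI : Module.Flat R Γ(X, U) := hfl
  exact finitePresentation_of_flat_of_finiteType hR

theorem isCoherentScheme (hR : IsSemilocalPrufer R) (π : X ⟶ Spec (CommRingCat.of R)) [Flat π]
    [LocallyOfFiniteType π] : IsCoherentScheme X := by
  intro U hU M _ _ _ N hN
  letI := ((π.appLE ⊤ U le_top).hom.comp (Scheme.ΓSpecIso (CommRingCat.of R)).inv.hom).toAlgebra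
  haveI : Algebra.FinitePresentation R Γ(X, U) := finitePresentation_app hR π hU
  exact coherent hR N hN

/-- Direct images along closed immersions over the base. -/
theorem isFP_push (hR : IsSemilocalPrufer R) {Y : Scheme.{u}} (πX : X ⟶ Spec (CommRingCat.of R)) [Flat πX]
    [LocallyOfFiniteType πX] (πY : Y ⟶ Spec (CommRingCat.of R)) [LocallyOfFiniteType πY] (i : X ⟶ Y)
    [IsClosedImmersion i] (h : i ≫ πY = πX) {F : X.Modules} (hF : CohB1.IsFP F) :
    CohB1.IsFP ((Scheme.Modules.pushforward i).obj F) := by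
  haveI := isQCoh_of_isFP hF
  haveI : Coh.IsQCoh ((Scheme.Modules.pushforward i).obj F) := Groth.L16.QcqsPush.isQCoh_push F i
  refine isFP_of_sections _ fun y => ?_
  obtain ⟨_, ⟨V, hV, rfl⟩, hyV, -⟩ :=
    Y.isBasis_affineOpens.exists_subset_of_mem_open (Set.mem_univ y) isOpen_univ
  refine ⟨V, hV, hyV, ?_⟩
  have hW : IsAffineOpen (i ⁻¹ᵁ V) := hV.preimage i
  have hs : Function.Surjective (i.app V) := i.app_surjective V hV
  have hcomp : (i.app V).hom.comp ((πY.appLE ⊤ V le_top).hom.comp (Scheme.ΓSpecIso (CommRingCat.of R)).inv.hom) =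
      (πX.appLE ⊤ (i ⁻¹ᵁ V) le_top).hom.comp (Scheme.ΓSpecIso (CommRingCat.of R)).inv.hom := by
    rw [← RingHom.comp_assoc, ← CommRingCat.hom_comp]
    congr 2
    subst h
    simp [Scheme.Hom.appLE, Scheme.Hom.comp_app]
  letI : Algebra Γ(Y, V) Γ(X, i ⁻¹ᵁ V) := (i.app V).hom.toAlgebra
  letI : Algebra R Γ(Y, V) := ((πY.appLE ⊤ V le_top).hom.comp (Scheme.ΓSpecIso (CommRingCat.of R)).inv.hom).toAlgebra
  letI : Algebra R Γ(X, i ⁻¹ᵁ V) :=
    ((πX.appLE ⊤ (i ⁻¹ᵁ V) le_top).hom.comp (Scheme.ΓSpecIso (CommRingCat.of R)).inv.hom).toAlgebra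
  haveI : IsScalarTower R Γ(Y, V) Γ(X, i ⁻¹ᵁ V) := IsScalarTower.of_algebraMap_eq' hcomp.symm
  haveI : Algebra.FinitePresentation R Γ(X, i ⁻¹ᵁ V) := finitePresentation_app hR πX hW
  haveI : Algebra.FiniteType R Γ(Y, V) := RingHom.FiniteType.comp
    (πY.finiteType_appLE (isAffineOpen_top (Spec (CommRingCat.of R))) hV le_top)
    (RingHom.FiniteType.of_surjective _
      (ConcreteCategory.bijective_of_isIso (Scheme.ΓSpecIso (CommRingCat.of R)).inv).2)
  haveI : Algebra.FinitePresentation Γ(Y, V) Γ(X, i ⁻¹ᵁ V) :=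
    Algebra.FinitePresentation.of_restrict_scalars_finitePresentation R Γ(Y, V) Γ(X, i ⁻¹ᵁ V)
  haveI : Module.FinitePresentation Γ(Y, V) Γ(X, i ⁻¹ᵁ V) :=
    Module.finitePresentation_of_surjective (Algebra.linearMap Γ(Y, V) Γ(X, i ⁻¹ᵁ V)) hs
      (Algebra.FinitePresentation.ker_fG_of_surjective (Algebra.ofId Γ(Y, V) Γ(X, i ⁻¹ᵁ V)) hs)
  haveI := Groth.L20.ModStalk.finitePresentation_sections F hF hW
  letI : Module Γ(Y, V) Γ(F, i ⁻¹ᵁ V) := Module.compHom _ (i.app V).hom
  haveI : IsScalarTower Γ(Y, V) Γ(X, i ⁻¹ᵁ V) Γ(F, i ⁻¹ᵁ V) := IsScalarTower.of_algebraMap_smul fun _ _ => rfl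
  haveI : Module.FinitePresentation Γ(Y, V) Γ(F, i ⁻¹ᵁ V) := Module.FinitePresentation.trans _ _ Γ(X, i ⁻¹ᵁ V)
  exact Module.FinitePresentation.of_equiv
    ({ toFun := fun s => s, invFun := fun s => s, map_add' := fun _ _ => rfl, map_smul' := fun _ _ => rfl,
       left_inv := fun _ => rfl, right_inv := fun _ => rfl } :
      Γ(F, i ⁻¹ᵁ V) ≃ₗ[Γ(Y, V)] Γ((Scheme.Modules.pushforward i).obj F, V))

end Groth.L05.Prufer
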