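import Mathlib.RingTheory.Valuation.ValuationRing
import Mathlib.RingTheory.Localization.LocalizationLocalization
import Mathlib.RingTheory.Spectrum.Maximal.Basic
import Mathlib.RingTheory.Spectrum.Prime.RingHom
import Mathlib.RingTheory.Spectrum.Prime.Noetherian
import Mathlib.RingTheory.LocalRing.ResidueField.Fiber
import Mathlib.RingTheory.KrullDimension.Basic
import Mathlib.RingTheory.Localization.Away.Basic
import Mathlib.Data.Finset.Sort
import Mathlib.RingTheory.FiniteType
import Mathlib.RingTheory.FiniteStability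

/-!
# Primes of Prüfer domains
-/

set_option autoImplicit false
set_option linter.style.haveILetI false

universe u

namespace Groth.L05.Prufer

variable {R : Type u} [CommRing R] [IsDomain R]
  (hR : ∀ (p : Ideal R) [p.IsPrime], ValuationRing (Localization.AtPrime p))

include hR in
theorem valuationRing_localization_localization (M : Submonoid R) (B : Type u) [CommRing B] [IsDomain B]
    [Algebra R B] [IsLocalization M B] (q : Ideal B) [q.IsPrime] : ValuationRing (Localization.AtPrime q) := by
  haveI : IsLocalization.AtPrime (Localization.AtPrime q) (q.comap (algebraMap R B)) :=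
    IsLocalization.isLocalization_isLocalization_atPrime_isLocalization M _ q
  haveI := hR (q.comap (algebraMap R B))
  exact Function.Surjective.valuationRing
    (IsLocalization.algEquiv (q.comap (algebraMap R B)).primeCompl
      (Localization.AtPrime (q.comap (algebraMap R B))) (Localization.AtPrime q)).toRingEquiv.toRingHom
    (IsLocalization.algEquiv _ _ _).surjective

include hR in
theorem valuationRing_localization_quotient (I : Ideal R) [I.IsPrime] (q : Ideal (R ⧸ I)) [q.IsPrime] :
    ValuationRing (Localization.AtPrime q) := by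
  haveI := hR (q.comap (Ideal.Quotient.mk I))
  refine Function.Surjective.valuationRing
    (Localization.localRingHom (q.comap (Ideal.Quotient.mk I)) q (Ideal.Quotient.mk I) rfl) fun z => ?_
  obtain ⟨⟨a, s⟩, rfl⟩ := IsLocalization.mk'_surjective q.primeCompl z
  obtain ⟨a, rfl⟩ := Ideal.Quotient.mk_surjective a
  obtain ⟨s, hs⟩ := s
  obtain ⟨s, rfl⟩ := Ideal.Quotient.mk_surjective s
  exact ⟨IsLocalization.mk' _ a (⟨s, hs⟩ : (q.comap (Ideal.Quotient.mk I)).primeCompl),
    Localization.localRingHom_mk' _ _ _ rfl _ _⟩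

include hR in
/-- The primes below a prime form a chain. -/
theorem le_total_of_le (P p q : Ideal R) [P.IsPrime] [p.IsPrime] [q.IsPrime] (hp : p ≤ P) (hq : q ≤ P) :
    p ≤ q ∨ q ≤ p := by
  haveI := hR P
  let A := Localization.AtPrime P
  have hd : ∀ r : Ideal R, r ≤ P → Disjoint (P.primeCompl : Set R) (r : Set R) := fun r hr =>
    Set.disjoint_left.mpr fun z hz hz' => hz (hr hz')
  rcases (ValuationRing.iff_ideal_total.mp ‹ValuationRing A›).total (p.map (algebraMap R A)) (q.map (algebraMap R A)) with h | h
  · left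
    exact (IsLocalization.under_map_of_isPrime_disjoint P.primeCompl A ‹p.IsPrime› (hd p hp)).ge.trans
      ((Ideal.comap_mono (f := algebraMap R A) h).trans
        (IsLocalization.under_map_of_isPrime_disjoint P.primeCompl A ‹q.IsPrime› (hd q hq)).le)
  · right
    exact (IsLocalization.under_map_of_isPrime_disjoint P.primeCompl A ‹q.IsPrime› (hd q hq)).ge.trans
      ((Ideal.comap_mono (f := algebraMap R A) h).trans
        (IsLocalization.under_map_of_isPrime_disjoint P.primeCompl A ‹p.IsPrime› (hd p hp)).le)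

include hR in
theorem finite_primeSpectrum (hfin : Finite (MaximalSpectrum R)) (hdim : ringKrullDim R < ⊤) :
    Finite (PrimeSpectrum R) := by
  classical
  have h1 : ∀ P : MaximalSpectrum R, {p : PrimeSpectrum R | p.asIdeal ≤ P.asIdeal}.Finite := by
    intro P
    haveI := P.isMaximal
    by_contra hinf
    have hbig : ∀ N : ℕ, ∃ l : LTSeries (PrimeSpectrum R), l.length = N := by
      intro N
      haveI : Infinite {p : PrimeSpectrum R // p.asIdeal ≤ P.asIdeal} := Set.infinite_coe_iff.mpr hinf
      letI : LinearOrder {p : PrimeSpectrum R // p.asIdeal ≤ P.asIdeal} :=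
        { (inferInstance : PartialOrder {p : PrimeSpectrum R // p.asIdeal ≤ P.asIdeal}) with
          le_total := fun a b => le_total_of_le hR P.asIdeal a.1.asIdeal b.1.asIdeal a.2 b.2
          toDecidableLE := Classical.decRel _ }
      obtain ⟨s, hs⟩ := Infinite.exists_subset_card_eq {p : PrimeSpectrum R // p.asIdeal ≤ P.asIdeal} (N + 1)
      exact ⟨⟨N, fun i => (s.orderEmbOfFin hs i).1, fun i =>
        (s.orderEmbOfFin hs).strictMono i.castSucc_lt_succ⟩, rfl⟩
    have : ringKrullDim R = ⊤ := by
      refine Order.krullDim_eq_top_iff.mpr ⟨fun n => ?_⟩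
      exact hbig n
    exact absurd this hdim.ne
  haveI := hfin
  refine Set.finite_univ_iff.mp ((Set.finite_iUnion h1).subset fun p _ => ?_)
  obtain ⟨M, hM, hle⟩ := p.asIdeal.exists_le_maximal p.isPrime.ne_top
  exact Set.mem_iUnion.mpr ⟨⟨M, hM⟩, hle⟩

omit [IsDomain R] in
theorem exists_generic_and_localization [Finite (PrimeSpectrum R)] (m : Ideal R) [m.IsMaximal] :
    (∃ a : R, ∀ (p : Ideal R), p.IsPrime → (a ∈ p ↔ p = m)) ∧
      ∃ b : R, b ∉ m ∧ IsLocalization.AtPrime (Localization.Away b) m := by
  classical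
  haveI := Fintype.ofFinite (PrimeSpectrum R)
  constructor
  · by_contra h
    push Not at h
    let s : Finset (PrimeSpectrum R) := Finset.univ.filter fun p => p.asIdeal ≠ m
    have hsub : (m : Set R) ⊆ ⋃ p ∈ (↑s : Set (PrimeSpectrum R)), (p.asIdeal : Set R) := fun x hx => by
      obtain ⟨p, hp, hp'⟩ := h x
      rcases hp' with ⟨hxp, hne⟩ | ⟨hxp, rfl⟩
      · exact Set.mem_iUnion₂.mpr ⟨⟨p, hp⟩, by simpa [s] using hne, hxp⟩
      · exact absurd hx hxp
    obtain ⟨p, hp, hle⟩ := (Ideal.subset_union_prime (⟨m, inferInstance⟩ : PrimeSpectrum R) ⟨m, inferInstance⟩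
      fun p _ _ _ => p.isPrime).mp hsub
    exact (by simpa [s] using hp : p.asIdeal ≠ m) ((‹m.IsMaximal›.eq_of_le p.isPrime.ne_top hle).symm)
  · let s : Finset (PrimeSpectrum R) := Finset.univ.filter fun p => ¬ p.asIdeal ≤ m
    have hz : ∀ p : PrimeSpectrum R, ∃ z, z ∉ m ∧ (¬ p.asIdeal ≤ m → z ∈ p.asIdeal) := fun p => by
      by_cases hp : p.asIdeal ≤ m
      · exact ⟨1, (m.ne_top_iff_one).mp ‹m.IsMaximal›.ne_top, fun h => absurd hp h⟩
      · obtain ⟨z, hzp, hzm⟩ := SetLike.not_le_iff_exists.mp hp
        exact ⟨z, hzm, fun _ => hzp⟩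
    choose z hzm hz using hz
    let b := ∏ p ∈ s, z p
    have hb : b ∉ m := fun h => by
      obtain ⟨p, -, hp⟩ := (Ideal.IsPrime.prod_mem_iff (p := m)).mp h
      exact hzm p hp
    refine ⟨b, hb, IsLocalization.of_le (Submonoid.powers b) m.primeCompl ?_ fun r hr => ?_⟩
    · rintro _ ⟨k, rfl⟩ h
      exact hb (Ideal.IsPrime.mem_of_pow_mem inferInstance k h)
    · by_contra hu
      obtain ⟨Q, hQ, hle⟩ := Ideal.exists_le_maximal _ (show Ideal.span {algebraMap R (Localization.Away b) r} ≠ ⊤ from
        fun h => hu (Ideal.span_singleton_eq_top.mp h))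
      let p : PrimeSpectrum R := ⟨Q.comap (algebraMap R (Localization.Away b)), inferInstance⟩
      have hbp : b ∉ p.asIdeal := fun h => hQ.ne_top (Ideal.eq_top_of_isUnit_mem _ h (IsLocalization.Away.algebraMap_isUnit b))
      have hpm : p.asIdeal ≤ m := by
        by_contra hpm
        exact hbp (Ideal.mem_of_dvd _ (Finset.dvd_prod_of_mem z (show p ∈ s by simpa [s] using hpm)) (hz p hpm))
      exact hr (hpm (hle (Ideal.mem_span_singleton_self _)))

include hR in
theorem noetherianSpace_of_finiteType (hfin : Finite (MaximalSpectrum R)) (hdim : ringKrullDim R < ⊤)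
    (S : Type u) [CommRing S] [Algebra R S] [Algebra.FiniteType R S] :
    TopologicalSpace.NoetherianSpace (PrimeSpectrum S) := by
  haveI := finite_primeSpectrum hR hfin hdim
  rw [TopologicalSpace.noetherianSpace_iff_isCompact]
  intro t
  rw [show t = ⋃ p : PrimeSpectrum R, t ∩ PrimeSpectrum.comap (algebraMap R S) ⁻¹' {p} by ext x; simp]
  refine isCompact_iUnion fun p => ?_
  haveI : IsNoetherianRing (p.asIdeal.Fiber S) := Algebra.FiniteType.isNoetherianRing p.asIdeal.ResidueField _
  haveI : TopologicalSpace.NoetherianSpace ↥(PrimeSpectrum.comap (algebraMap R S) ⁻¹' {p}) :=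
    (PrimeSpectrum.preimageHomeomorphFiber R S p).isInducing.noetherianSpace
  have h := (TopologicalSpace.NoetherianSpace.isCompact (Subtype.val ⁻¹' t : Set ↥(PrimeSpectrum.comap (algebraMap R S) ⁻¹' {p}))).image continuous_subtype_val
  rwa [Subtype.image_preimage_coe, Set.inter_comm] at h

end Groth.L05.Prufer
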