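import Groth.Agent.L05.Prufer.Saturated
import Mathlib.Algebra.Module.FinitePresentation
import Mathlib.LinearAlgebra.TensorProduct.RightExactness

/-!
# Coherence of finitely presented algebras over semilocal Prüfer domains
-/

set_option autoImplicit false
set_option linter.style.haveILetI false

universe u v w

open MvPolynomial

namespace Groth.L05.Prufer

variable {R : Type u} [CommRing R] [IsDomain R] (hR : IsSemilocalPrufer R) {n : Type w} [Finite n]

include hR in
/-- A finite torsion free module over a polynomial ring is finitely presented. -/
theorem finitePresentation_of_torsionFree (M : Type v) [AddCommGroup M] [Module (MvPolynomial n R) M]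
    [Module R M] [IsScalarTower R (MvPolynomial n R) M] [Module.Finite (MvPolynomial n R) M]
    (h : ∀ (r : R) (m : M), r ≠ 0 → r • m = 0 → m = 0) : Module.FinitePresentation (MvPolynomial n R) M := by
  obtain ⟨r, g, hg⟩ := Module.Finite.exists_fin' (MvPolynomial n R) M
  refine Module.finitePresentation_of_surjective g hg (fg_of_saturated hR _ fun a f ha hf => ?_)
  rw [LinearMap.mem_ker] at hf ⊢
  refine h a _ ha ?_
  rwa [← LinearMap.map_smul_of_tower]

include hR in
/-- A finite submodule of a finitely presented module over a polynomial ring is finitely presented. -/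
theorem finitePresentation_submodule {M : Type v} [AddCommGroup M] [Module (MvPolynomial n R) M]
    [Module.FinitePresentation (MvPolynomial n R) M] (N : Submodule (MvPolynomial n R) M) (hN : N.FG) :
    Module.FinitePresentation (MvPolynomial n R) N := by
  classical
  obtain ⟨r, g, hg⟩ := Module.Finite.exists_fin' (MvPolynomial n R) M
  have hker : (LinearMap.ker g).FG := Module.FinitePresentation.fg_ker g hg
  let N' := N.comap g
  have hN' : N'.FG := by
    refine Submodule.fg_of_fg_map_of_fg_inf_ker g ?_ ?_
    · rwa [Submodule.map_comap_eq_of_surjective hg]
    · rwa [inf_eq_right.mpr (LinearMap.ker_le_comap g)]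
  haveI : Module.Finite (MvPolynomial n R) N' := Module.Finite.iff_fg.mpr hN'
  haveI : Module.FinitePresentation (MvPolynomial n R) N' := by
    have htf : ∀ (a : R) (x : N'), a ≠ 0 → a • x = 0 → x = 0 := by
      intro a x ha hx
      refine Subtype.ext (funext fun i => ?_)
      have h := congrFun (congrArg Subtype.val hx) i
      change a • x.1 i = 0 at h
      rw [smul_eq_C_mul] at h
      exact (mul_eq_zero.mp h).resolve_left (by simpa using ha)
    exact finitePresentation_of_torsionFree hR N' htf
  let g' : N' →ₗ[MvPolynomial n R] N := LinearMap.restrict g fun x hx => hx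
  refine Module.finitePresentation_of_surjective g' (fun y => ?_) ?_
  · obtain ⟨x, hx⟩ := hg y.1
    exact ⟨⟨x, show g x ∈ N from hx ▸ y.2⟩, Subtype.ext hx⟩
  · have : LinearMap.ker g' = (LinearMap.ker g).comap N'.subtype := by
      ext x; exact ⟨fun h => congrArg Subtype.val h, fun h => Subtype.ext h⟩
    rw [this]
    exact Submodule.fg_of_fg_map_injective N'.subtype N'.injective_subtype (by
      rwa [Submodule.map_comap_subtype, inf_eq_right.mpr (LinearMap.ker_le_comap g)])

variable {A : Type u} [CommRing A] [Algebra R A]

include hR in
/-- A flat algebra of finite type is finitely presented. -/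
theorem finitePresentation_of_flat_of_finiteType [Algebra.FiniteType R A] [Module.Flat R A] :
    Algebra.FinitePresentation R A := by
  obtain ⟨k, g, hg⟩ := Algebra.FiniteType.iff_quotient_mvPolynomial''.mp (inferInstance : Algebra.FiniteType R A)
  letI := g.toRingHom.toAlgebra
  haveI : IsScalarTower R (MvPolynomial (Fin k) R) A := IsScalarTower.of_algebraMap_eq fun r => (g.commutes r).symm
  haveI : Module.Finite (MvPolynomial (Fin k) R) A :=
    Module.Finite.of_surjective (Algebra.linearMap (MvPolynomial (Fin k) R) A) hg
  haveI := finitePresentation_of_torsionFree (n := Fin k) hR A fun r m hr hrm => by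
    have hreg : IsSMulRegular A r := Module.Flat.isSMulRegular_of_isRegular (IsRegular.of_ne_zero hr)
    exact hreg.right_eq_zero_of_smul hrm
  exact Algebra.FinitePresentation.of_surjective hg
    (Module.FinitePresentation.fg_ker (Algebra.linearMap (MvPolynomial (Fin k) R) A) hg)

include hR in
/-- A finite submodule of a finitely presented module is finitely presented (coherence). -/
theorem coherent [Algebra.FinitePresentation R A] {M : Type u} [AddCommGroup M] [Module A M]
    [Module.FinitePresentation A M] (N : Submodule A M) (hN : N.FG) : Module.FinitePresentation A N := by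
  obtain ⟨k, g, hg, hker⟩ := (inferInstance : Algebra.FinitePresentation R A)
  letI := g.toRingHom.toAlgebra
  letI : Module (MvPolynomial (Fin k) R) M := Module.compHom M g.toRingHom
  haveI : IsScalarTower (MvPolynomial (Fin k) R) A M := IsScalarTower.of_algebraMap_smul fun _ _ => rfl
  haveI : Module.FinitePresentation (MvPolynomial (Fin k) R) A :=
    Module.finitePresentation_of_surjective (Algebra.linearMap (MvPolynomial (Fin k) R) A) hg hker
  haveI : Module.FinitePresentation (MvPolynomial (Fin k) R) M := Module.FinitePresentation.trans _ _ A
  haveI : Module.FinitePresentation (MvPolynomial (Fin k) R) N := by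
    haveI : Module.FinitePresentation (MvPolynomial (Fin k) R) (N.restrictScalars (MvPolynomial (Fin k) R)) :=
      finitePresentation_submodule hR _ (Submodule.FG.restrictScalars_of_surjective hN hg)
    exact Module.FinitePresentation.of_equiv
      ((Submodule.restrictScalarsEquiv (MvPolynomial (Fin k) R) A M N).restrictScalars (MvPolynomial (Fin k) R))
  haveI : Module.Finite A N := Module.Finite.iff_fg.mpr hN
  obtain ⟨r, p, hp⟩ := Module.Finite.exists_fin' A N
  refine Module.finitePresentation_of_surjective p hp ?_
  have := Module.FinitePresentation.fg_ker (p.restrictScalars (MvPolynomial (Fin k) R)) hp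
  exact Submodule.FG.of_restrictScalars (MvPolynomial (Fin k) R) (by rwa [← LinearMap.ker_restrictScalars])

end Groth.L05.Prufer
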