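import Groth.Agent.L05.Prufer.Coherent
import Groth.Agent.S0387
import Mathlib.RingTheory.MvPolynomial.Localization
import Mathlib.RingTheory.TensorProduct.IsBaseChangePi
import Mathlib.RingTheory.Ideal.Maximal

/-!
# Finitely presented algebras over Prüfer domains are coherent
-/

set_option autoImplicit false
set_option linter.style.haveILetI false

universe u v w

open MvPolynomial

namespace Groth.L05.Prufer

theorem isSemilocalPrufer_of_valuationRing (V : Type u) [CommRing V] [IsDomain V] [ValuationRing V] :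
    IsSemilocalPrufer V where
  valuationRing q _ := by
    haveI : PreValuationRing (Localization.AtPrime q) := ⟨fun a b => by
      obtain ⟨⟨x, s⟩, rfl⟩ := IsLocalization.mk'_surjective q.primeCompl a
      obtain ⟨⟨y, t⟩, rfl⟩ := IsLocalization.mk'_surjective q.primeCompl b
      obtain ⟨c, hc | hc⟩ := ValuationRing.cond (x * (t : V)) (y * s)
      · refine ⟨algebraMap V _ c, Or.inl ?_⟩
        dsimp only
        rw [mul_comm, IsLocalization.mul_mk'_eq_mk'_of_mul, IsLocalization.mk'_eq_iff_eq]
        congr 1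
        linear_combination hc
      · refine ⟨algebraMap V _ c, Or.inr ?_⟩
        dsimp only
        rw [mul_comm, IsLocalization.mul_mk'_eq_mk'_of_mul, IsLocalization.mk'_eq_iff_eq]
        congr 1
        linear_combination hc⟩
    exact .mk
  finite := by
    haveI : IsLocalRing V := inferInstance
    exact Finite.of_subsingleton

variable {R : Type u} [CommRing R] [IsDomain R]

theorem mem_of_map_mem_localized' {A A' M M' : Type*} [CommRing A] [CommRing A'] [Algebra A A'] (p : Submonoid A)
    [IsLocalization p A'] [AddCommGroup M] [Module A M] [AddCommGroup M'] [Module A M'] [Module A' M']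
    [IsScalarTower A A' M'] (f : M →ₗ[A] M') [IsLocalizedModule p f] (N : Submodule A M) (x : M)
    (h : f x ∈ Submodule.localized' A' p f N) : ∃ s ∈ p, s • x ∈ N := by
  obtain ⟨m, hm, s, hs⟩ := (Submodule.mem_localized' _ _ _ _ _).mp h
  rw [IsLocalizedModule.mk'_eq_iff, Submonoid.smul_def, ← map_smul] at hs
  obtain ⟨c, hc⟩ := IsLocalizedModule.exists_of_eq (S := p) hs
  refine ⟨c * s, p.mul_mem c.2 s.2, ?_⟩
  rw [mul_smul]
  exact hc ▸ N.smul_mem (c : A) hm

attribute [local instance] MvPolynomial.algebraMvPolynomial in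
/-- A saturated submodule is finitely generated up to elements outside a given prime. -/
theorem exists_fg_le_of_saturated (P : Ideal R) [P.IsPrime] [ValuationRing (Localization.AtPrime P)]
    {n r : ℕ} (N : Submodule (MvPolynomial (Fin n) R) (Fin r → MvPolynomial (Fin n) R))
    (hN : ∀ (a : R) (f : Fin r → MvPolynomial (Fin n) R), a ≠ 0 → a • f ∈ N → f ∈ N) :
    ∃ N' ≤ N, N'.FG ∧ ∀ x ∈ N, ∃ s ∉ P, C (σ := Fin n) s • x ∈ N' := by
  classical
  let p : Submonoid (MvPolynomial (Fin n) R) := P.primeCompl.map (C (σ := Fin n))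
  let V := Localization.AtPrime P
  let g : MvPolynomial (Fin n) R →ₗ[MvPolynomial (Fin n) R] MvPolynomial (Fin n) V := Algebra.linearMap _ _
  let φ : (Fin r → MvPolynomial (Fin n) R) →ₗ[MvPolynomial (Fin n) R] (Fin r → MvPolynomial (Fin n) V) :=
    LinearMap.pi fun i => g ∘ₗ LinearMap.proj i
  haveI : IsLocalization p (MvPolynomial (Fin n) V) := MvPolynomial.isLocalization P.primeCompl V
  haveI : IsLocalizedModule p φ := IsLocalizedModule.pi p (fun _ : Fin r => g)
  let NV := Submodule.localized' (MvPolynomial (Fin n) V) p φ N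
  have hsat : NV.FG := by
    refine fg_of_saturated (isSemilocalPrufer_of_valuationRing V) NV fun a z ha hz => ?_
    obtain ⟨⟨h, s⟩, rfl⟩ := IsLocalizedModule.mk'_surjective p φ z
    obtain ⟨⟨b, t⟩, rfl⟩ := IsLocalization.mk'_surjective P.primeCompl a
    dsimp only [Function.uncurry] at ha hz ⊢
    have hb : b ≠ 0 := fun h0 => ha (by rw [h0, IsLocalization.mk'_zero])
    have hmem : φ ((C b : MvPolynomial (Fin n) R) • h) ∈ NV := by
      have h2 := NV.smul_mem (algebraMap (MvPolynomial (Fin n) R) (MvPolynomial (Fin n) V) ((s : MvPolynomial (Fin n) R) * C (t : R))) hz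
      have h3 : IsLocalization.mk' V b t • IsLocalizedModule.mk' φ h s =
          (C (IsLocalization.mk' V b t) : MvPolynomial (Fin n) V) • IsLocalizedModule.mk' φ h s := by
        funext i
        simp only [Pi.smul_apply, MvPolynomial.smul_eq_C_mul, smul_eq_mul]
      rw [h3, ← mul_smul, map_mul, mul_assoc] at h2
      have h4 : algebraMap (MvPolynomial (Fin n) R) (MvPolynomial (Fin n) V) (C (t : R)) * C (IsLocalization.mk' V b t) =
          algebraMap (MvPolynomial (Fin n) R) (MvPolynomial (Fin n) V) (C b) := by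
        rw [MvPolynomial.algebraMap_def, map_C, map_C, ← map_mul, IsLocalization.mk'_spec']
      rw [h4, ← map_mul, mul_comm, algebraMap_smul, mul_smul, ← Submonoid.smul_def, IsLocalizedModule.mk'_cancel',
        ← map_smul] at h2
      exact h2
    obtain ⟨c, hc, hcN⟩ := mem_of_map_mem_localized' p φ N _ hmem
    obtain ⟨c', hc', rfl⟩ := hc
    have h' : h ∈ N := by
      refine hN (c' * b) h (mul_ne_zero (fun h0 => hc' (by rw [h0]; exact P.zero_mem)) hb) ?_
      rwa [← IsScalarTower.algebraMap_smul (MvPolynomial (Fin n) R) (c' * b), MvPolynomial.algebraMap_eq, map_mul, mul_smul]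
    exact (Submodule.mem_localized' _ _ _ _ _).mpr ⟨h, h', s, rfl⟩
  have hspan : (Submodule.span (MvPolynomial (Fin n) V) (φ '' N)).FG :=
    Submodule.localized'_eq_span (MvPolynomial (Fin n) V) p φ N ▸ hsat
  obtain ⟨T, hT, hT'⟩ := (Submodule.fg_span_iff_fg_span_finset_subset _).mp hspan
  obtain ⟨U, hU, hU'⟩ := Finset.subset_set_image_iff.mp hT
  refine ⟨Submodule.span _ (U : Set (Fin r → MvPolynomial (Fin n) R)), Submodule.span_le.mpr hU, ⟨U, rfl⟩, fun x hx => ?_⟩
  have hxm : φ x ∈ Submodule.localized' (MvPolynomial (Fin n) V) p φ (Submodule.span _ (U : Set (Fin r → MvPolynomial (Fin n) R))) := by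
    have h1 : φ x ∈ Submodule.span (MvPolynomial (Fin n) V) (φ '' N) := Submodule.subset_span ⟨x, hx, rfl⟩
    rw [hT', ← hU', Finset.coe_image] at h1
    rw [Submodule.localized'_eq_span]
    exact Submodule.span_mono (Set.image_mono Submodule.subset_span) h1
  obtain ⟨c, hc, hcN⟩ := mem_of_map_mem_localized' p φ _ _ hxm
  obtain ⟨c', hc', rfl⟩ := hc
  exact ⟨c', hc', hcN⟩

theorem mk_eq_zero_iff {A M : Type*} [CommRing A] (p : Submonoid A) [AddCommGroup M] [Module A M] (m : M) (s : p) :
    LocalizedModule.mk m s = 0 ↔ ∃ u ∈ p, u • m = 0 := by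
  rw [← LocalizedModule.zero_mk (1 : p), LocalizedModule.mk_eq]
  refine ⟨fun ⟨u, hu⟩ => ⟨u, u.2, by simpa [Submonoid.smul_def] using hu⟩, fun ⟨u, hu, hum⟩ => ⟨⟨u, hu⟩, ?_⟩⟩
  simpa [Submonoid.smul_def] using hum

/-- Over a Prüfer domain, saturated submodules of finite free modules over a polynomial ring are
finitely generated. -/
theorem fg_of_saturated_general (hR : ∀ (p : Ideal R) [p.IsPrime], ValuationRing (Localization.AtPrime p))
    {n r : ℕ} (N : Submodule (MvPolynomial (Fin n) R) (Fin r → MvPolynomial (Fin n) R))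
    (hN : ∀ (a : R) (f : Fin r → MvPolynomial (Fin n) R), a ≠ 0 → a • f ∈ N → f ∈ N) : N.FG := by
  classical
  let S := MvPolynomial (Fin n) R
  have key : ∀ P : MaximalSpectrum R, ∃ f : R, f ∉ P.asIdeal ∧ ∃ N' ≤ N, N'.FG ∧
      ∀ x ∈ N, ∃ k : ℕ, C (σ := Fin n) f ^ k • x ∈ N' := by
    intro P
    haveI := P.isMaximal
    haveI := hR P.asIdeal
    obtain ⟨N', hle, hfg, hs⟩ := exists_fg_le_of_saturated P.asIdeal N hN
    let Q := (Fin r → S) ⧸ N'
    haveI : Module.FinitePresentation S Q :=
      Module.finitePresentation_of_surjective N'.mkQ N'.mkQ_surjective (by rwa [N'.ker_mkQ])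
    let U : Set (PrimeSpectrum S) := {q | Module.Flat R (LocalizedModule q.asIdeal.primeCompl Q)}
    have hU : IsOpen U := Groth.Agent.S0387.result
    have hgood : ∀ q : PrimeSpectrum S, q.asIdeal.comap C ≤ P.asIdeal → q ∈ U := by
      intro q hq
      show Module.Flat R (LocalizedModule q.asIdeal.primeCompl Q)
      rw [Module.Flat.flat_iff_torsion_eq_bot_of_valuationRing_localization_isMaximal
        (fun p hp => hR p), eq_bot_iff]
      rintro m ⟨⟨a, ha⟩, hm⟩
      induction m using LocalizedModule.induction_on with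
      | _ y t =>
        obtain ⟨x, rfl⟩ := N'.mkQ_surjective y
        change a • LocalizedModule.mk (N'.mkQ x) t = 0 at hm
        rw [← IsScalarTower.algebraMap_smul S a, LocalizedModule.smul'_mk, mk_eq_zero_iff] at hm
        obtain ⟨u, hu, hux⟩ := hm
        rw [← map_smul, ← map_smul, Submodule.mkQ_apply, Submodule.Quotient.mk_eq_zero, smul_comm,
          IsScalarTower.algebraMap_smul] at hux
        obtain ⟨s, hsP, hsx⟩ := hs _ (hN a _ (nonZeroDivisors.ne_zero ha) (hle hux))
        show LocalizedModule.mk (N'.mkQ x) t = 0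
        rw [mk_eq_zero_iff]
        refine ⟨C s * u, q.asIdeal.primeCompl.mul_mem (fun h => hsP (hq h)) hu, ?_⟩
        rwa [← map_smul, Submodule.mkQ_apply, Submodule.Quotient.mk_eq_zero, mul_smul]
    obtain ⟨I, hI⟩ := (PrimeSpectrum.isClosed_iff_zeroLocus_ideal _).mp hU.isClosed_compl
    obtain ⟨f, hfI, hfP⟩ : ∃ f : R, C f ∈ I ∧ f ∉ P.asIdeal := by
      by_contra hcon
      push Not at hcon
      obtain ⟨q, hqp, hIq, hqd⟩ := Ideal.exists_le_prime_disjoint I
        (P.asIdeal.primeCompl.map (C (σ := Fin n))) (Set.disjoint_left.mpr fun z hz hz' => by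
          obtain ⟨a, ha, rfl⟩ := hz'; exact ha (hcon a hz))
      have hmem : (⟨q, hqp⟩ : PrimeSpectrum S) ∈ Uᶜ := by
        rw [hI]; exact (PrimeSpectrum.mem_zeroLocus _ _).mpr hIq
      exact hmem (hgood _ fun a ha => by_contra fun haP =>
        Set.disjoint_left.mp hqd ha ⟨a, haP, rfl⟩)
    refine ⟨f, hfP, N', hle, hfg, fun x hx => ?_⟩
    let A := (⊥ : Submodule S Q).colon {N'.mkQ x}
    suffices C f ∈ A.radical by
      obtain ⟨k, hk⟩ := this
      refine ⟨k, ?_⟩
      rwa [Submodule.mem_colon_singleton, Submodule.mem_bot, ← map_smul, Submodule.mkQ_apply,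
        Submodule.Quotient.mk_eq_zero] at hk
    rw [Ideal.radical_eq_sInf, Submodule.mem_sInf]
    rintro q ⟨hAq, hq⟩
    by_contra hfq
    have hqU : (⟨q, hq⟩ : PrimeSpectrum S) ∈ U := by
      by_contra hqU
      have : (⟨q, hq⟩ : PrimeSpectrum S) ∈ PrimeSpectrum.zeroLocus (I : Set S) := hI ▸ hqU
      exact hfq ((PrimeSpectrum.mem_zeroLocus _ _).mp this hfI)
    haveI : Module.Flat R (LocalizedModule (Ideal.primeCompl q) Q) := hqU
    obtain ⟨s, hsP, hsx⟩ := hs x hx
    have hs0 : s ≠ 0 := fun h => hsP (h ▸ zero_mem _)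
    have h0 : s • LocalizedModule.mk (N'.mkQ x) (1 : Ideal.primeCompl q) = 0 := by
      rw [← IsScalarTower.algebraMap_smul S s, LocalizedModule.smul'_mk, ← map_smul, Submodule.mkQ_apply,
        MvPolynomial.algebraMap_eq, (Submodule.Quotient.mk_eq_zero N').mpr hsx, LocalizedModule.zero_mk]
    have h1 := (Module.Flat.isSMulRegular_of_isRegular (IsRegular.of_ne_zero hs0)).right_eq_zero_of_smul h0
    obtain ⟨u, hu, hux⟩ := (mk_eq_zero_iff _ _ _).mp h1
    exact hu (hAq (by rwa [Submodule.mem_colon_singleton, Submodule.mem_bot]))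
  choose f hf N' hle hfg hpow using key
  have hspan : Ideal.span (Set.range f) = ⊤ := by
    by_contra h
    obtain ⟨M, hM, hle'⟩ := Ideal.exists_le_maximal _ h
    exact hf ⟨M, hM⟩ (hle' (Ideal.subset_span ⟨⟨M, hM⟩, rfl⟩))
  obtain ⟨T, hT, hTfin⟩ := Ideal.span_eq_top_iff_finite (Set.range f) |>.mp hspan
  choose P hP using fun t : T => hT t.2
  refine (?_ : N = ⨆ t : T, N' (P t)) ▸ Submodule.fg_iSup _ fun t => hfg _
  refine le_antisymm (fun x hx => ?_) (iSup_le fun t => hle _)
  let J : Ideal R := ((⨆ t : T, N' (P t)).restrictScalars R).colon {x}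
  have hJ : ∀ t : T, (t : R) ∈ J.radical := fun t => by
    obtain ⟨k, hk⟩ := hpow (P t) x hx
    refine ⟨k, Submodule.mem_colon_singleton.mpr ?_⟩
    rw [← IsScalarTower.algebraMap_smul S, map_pow, MvPolynomial.algebraMap_eq, ← hP t]
    exact le_iSup (fun t : T => N' (P t)) t hk
  have htop : J = ⊤ := Ideal.radical_eq_top.mp (top_le_iff.mp (hTfin ▸ Ideal.span_le.mpr fun t ht => hJ ⟨t, ht⟩))
  have h1 := Submodule.mem_colon_singleton.mp (htop ▸ Submodule.mem_top : (1 : R) ∈ J)
  rwa [one_smul, Submodule.restrictScalars_mem] at h1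

theorem ideal_finitePresentation (hR : ∀ (p : Ideal R) [p.IsPrime], ValuationRing (Localization.AtPrime p))
    {A : Type u} [CommRing A] [Algebra R A] [Algebra.FinitePresentation R A] (I : Ideal A) (hI : I.FG) :
    Module.FinitePresentation A I := by
  classical
  obtain ⟨k, g, hg, hker⟩ := (inferInstance : Algebra.FinitePresentation R A)
  letI := g.toRingHom.toAlgebra
  let S := MvPolynomial (Fin k) R
  let π : S →ₗ[S] A := Algebra.linearMap S A
  let J : Submodule S A := I.restrictScalars S
  have hJ : J.FG := Submodule.FG.restrictScalars_of_surjective hI hg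
  let I' : Submodule S S := J.comap π
  have hkerπ : (LinearMap.ker π).FG := hker
  have hI' : I'.FG := by
    refine Submodule.fg_of_fg_map_of_fg_inf_ker π ?_ ?_
    · rwa [Submodule.map_comap_eq_of_surjective (show Function.Surjective π from hg)]
    · rwa [inf_eq_right.mpr (LinearMap.ker_le_comap π)]
  haveI : Module.Finite S I' := Module.Finite.iff_fg.mpr hI'
  haveI : Module.FinitePresentation S I' := by
    obtain ⟨r, p, hp⟩ := Module.Finite.exists_fin' S I'
    refine Module.finitePresentation_of_surjective p hp (fg_of_saturated_general hR _ fun a f ha hf => ?_)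
    rw [LinearMap.mem_ker] at hf ⊢
    rw [← IsScalarTower.algebraMap_smul S a f, map_smul] at hf
    refine Subtype.ext ?_
    have h := congrArg Subtype.val hf
    rw [Submodule.coe_smul, smul_eq_mul, Submodule.coe_zero, MvPolynomial.algebraMap_eq] at h
    exact (mul_eq_zero.mp h).resolve_left ((MvPolynomial.C_ne_zero).mpr ha)
  let π' : I' →ₗ[S] J := π.restrict fun x hx => hx
  haveI : Module.FinitePresentation S J := by
    refine Module.finitePresentation_of_surjective π' (fun y => ?_) ?_
    · obtain ⟨x, hx⟩ := hg y.1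
      exact ⟨⟨x, show π x ∈ J from (show π x = y.1 from hx) ▸ y.2⟩, Subtype.ext hx⟩
    · have : LinearMap.ker π' = (LinearMap.ker π).comap I'.subtype := by
        ext x; exact ⟨fun h => congrArg Subtype.val h, fun h => Subtype.ext h⟩
      rw [this]
      exact Submodule.fg_of_fg_map_injective I'.subtype I'.injective_subtype (by
        rwa [Submodule.map_comap_subtype, inf_eq_right.mpr (LinearMap.ker_le_comap π)])
  haveI : Module.FinitePresentation S I :=
    Module.FinitePresentation.of_equiv ((Submodule.restrictScalarsEquiv S A A I).restrictScalars S)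
  haveI : Module.Finite A I := Module.Finite.iff_fg.mpr hI
  obtain ⟨r, p, hp⟩ := Module.Finite.exists_fin' A I
  refine Module.finitePresentation_of_surjective p hp ?_
  haveI : Module.FinitePresentation S A := Module.finitePresentation_of_surjective π hg hkerπ
  have := Module.FinitePresentation.fg_ker (p.restrictScalars S) hp
  exact Submodule.FG.of_restrictScalars S (by rwa [← LinearMap.ker_restrictScalars])

end Groth.L05.Prufer
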