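import Mathlib.RingTheory.Flat.TorsionFree
import Mathlib.RingTheory.LocalRing.Module
import Mathlib.RingTheory.Spectrum.Prime.FreeLocus
import Mathlib.RingTheory.MvPolynomial.Homogeneous
import Mathlib.RingTheory.Ideal.Quotient.Operations
import Mathlib.RingTheory.Polynomial.Basic
import Mathlib.RingTheory.Artinian.Module
import Mathlib.RingTheory.FiniteType
import Mathlib.RingTheory.FinitePresentation
import Mathlib.RingTheory.Spectrum.Maximal.Basic
import Mathlib.RingTheory.Valuation.ValuationRing

/-!
# Polynomial rings over semilocal Prüfer domains: saturated submodules are finitely generated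
-/

set_option autoImplicit false
set_option linter.style.haveILetI false

universe u v w

open MvPolynomial TensorProduct

namespace Groth.L05.Prufer

/-- Semilocal Prüfer domains. -/
structure IsSemilocalPrufer (R : Type u) [CommRing R] [IsDomain R] : Prop where
  valuationRing : ∀ (p : Ideal R) [p.IsPrime], ValuationRing (Localization.AtPrime p)
  finite : Finite (MaximalSpectrum R)

variable {R : Type u} [CommRing R] [IsDomain R]

theorem flat_of_torsionFree (hR : IsSemilocalPrufer R) (M : Type v) [AddCommGroup M] [Module R M]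
    (h : ∀ (r : R) (m : M), r ≠ 0 → r • m = 0 → m = 0) : Module.Flat R M := by
  rw [Module.Flat.flat_iff_torsion_eq_bot_of_valuationRing_localization_isMaximal
    (fun P hP => hR.valuationRing P), eq_bot_iff]
  rintro m ⟨⟨r, hr⟩, hm⟩
  exact h r m (nonZeroDivisors.ne_zero hr) hm

theorem free_of_torsionFree (hR : IsSemilocalPrufer R) (M : Type v) [AddCommGroup M] [Module R M]
    [Module.Finite R M] (h : ∀ (r : R) (m : M), r ≠ 0 → r • m = 0 → m = 0) : Module.Free R M := by
  haveI := flat_of_torsionFree hR M h
  haveI := hR.finite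
  refine Module.free_of_flat_of_finrank_eq _ _ (Module.finrank R M) fun P => ?_
  haveI := P.isMaximal
  letI := Ideal.Quotient.field P.asIdeal
  rw [← P.asIdeal.finrank_fiber_eq_finrank (M := M)]
  show _ = Module.finrank P.asIdeal.ResidueField (P.asIdeal.ResidueField ⊗[R] M)
  haveI : Module.Free (R ⧸ P.asIdeal) ((R ⧸ P.asIdeal) ⊗[R] M) := Module.Free.of_divisionRing _ _
  rw [← (TensorProduct.AlgebraTensorModule.cancelBaseChange R (R ⧸ P.asIdeal) P.asIdeal.ResidueField
    P.asIdeal.ResidueField M).finrank_eq]
  exact (Module.finrank_baseChange (R := P.asIdeal.ResidueField) (S := R ⧸ P.asIdeal)).symm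

/-- The product of the residue fields is Noetherian. -/
theorem isNoetherianRing_quotient_jacobson (hR : IsSemilocalPrufer R) :
    IsNoetherianRing (R ⧸ ⨅ P : MaximalSpectrum R, P.asIdeal) := by
  haveI := hR.finite
  haveI : ∀ P : MaximalSpectrum R, IsNoetherianRing (R ⧸ P.asIdeal) := fun P => by
    haveI := P.isMaximal
    letI := Ideal.Quotient.field P.asIdeal
    infer_instance
  exact isNoetherianRing_of_ringEquiv (∀ P : MaximalSpectrum R, R ⧸ P.asIdeal)
    (Ideal.quotientInfRingEquivPiQuotient (fun P : MaximalSpectrum R => P.asIdeal) (fun P Q hPQ =>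
      Ideal.isCoprime_iff_sup_eq.mpr (P.isMaximal.coprime_of_ne Q.isMaximal fun h => hPQ (MaximalSpectrum.ext h)))).symm

theorem jacobson_le (P : MaximalSpectrum R) : (⨅ Q : MaximalSpectrum R, Q.asIdeal) ≤ P.asIdeal :=
  iInf_le _ P

theorem iInf_maximal_le_jacobson : (⨅ Q : MaximalSpectrum R, Q.asIdeal) ≤ Ideal.jacobson (⊥ : Ideal R) :=
  le_sInf fun J hJ => iInf_le_of_le (⟨J, hJ.2⟩ : MaximalSpectrum R) le_rfl

section Saturated

variable (hR : IsSemilocalPrufer R) {n : Type w} [Finite n] {r : ℕ}

/-- forms of degree `d` in each coordinate -/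
noncomputable def pieces (d : ℕ) : Submodule R (Fin r → MvPolynomial (Option n) R) :=
  Submodule.pi Set.univ fun _ => homogeneousSubmodule (Option n) R d

/-- dehomogenisation -/
noncomputable def dehom : MvPolynomial (Option n) R →ₐ[R] MvPolynomial n R :=
  aeval fun o => o.elim 1 X

theorem finite_homogeneousSubmodule (d : ℕ) : Module.Finite R (homogeneousSubmodule (Option n) R d) := by
  classical
  haveI : Fintype n := Fintype.ofFinite n
  rw [homogeneousSubmodule_eq_finsupp_supported]
  have hfin : {e : Option n →₀ ℕ | e.degree = d}.Finite := Finsupp.finite_of_degree_eq d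
  haveI := hfin.to_subtype
  exact Module.Finite.equiv (AddMonoidAlgebra.supportedEquivFinsupp {e : Option n →₀ ℕ | e.degree = d}).symm

/-- the coordinates of a piece -/
noncomputable def piecesMap (d : ℕ) :
    (Fin r → homogeneousSubmodule (Option n) R d) →ₗ[R] pieces (R := R) (n := n) (r := r) d :=
  LinearMap.codRestrict _ (LinearMap.pi fun i => (homogeneousSubmodule (Option n) R d).subtype ∘ₗ LinearMap.proj i)
    fun G i _ => (G i).2

theorem finite_pieces (d : ℕ) : Module.Finite R (pieces (R := R) (n := n) (r := r) d) := by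
  haveI := finite_homogeneousSubmodule (R := R) (n := n) d
  exact Module.Finite.of_surjective (piecesMap d) fun F =>
    ⟨fun i => ⟨F.1 i, F.2 i trivial⟩, rfl⟩

omit [Finite n] in
theorem map_homogeneousComponent {S : Type u} [CommRing S] (φ : R →+* S) (e : ℕ) (q : MvPolynomial (Option n) R) :
    MvPolynomial.map φ (homogeneousComponent e q) = homogeneousComponent e (MvPolynomial.map φ q) := by
  ext m
  simp only [coeff_map, coeff_homogeneousComponent]
  split_ifs <;> simp

omit [IsDomain R] [Finite n] in
theorem homogeneousComponent_mul {S : Type u} [CommRing S] {m : ℕ} (c v : MvPolynomial (Option n) S)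
    (hv : v.IsHomogeneous m) (d : ℕ) :
    homogeneousComponent d (c * v) = if m ≤ d then homogeneousComponent (d - m) c * v else 0 := by
  classical
  have hterm : ∀ i, homogeneousComponent d (homogeneousComponent i c * v) =
      if i + m = d then homogeneousComponent i c * v else 0 := fun i => by
    rw [homogeneousComponent_of_mem (n := i + m) ((homogeneousComponent_isHomogeneous i c).mul hv)]
    exact if_congr eq_comm rfl rfl
  conv_lhs => rw [← sum_homogeneousComponent c, Finset.sum_mul, map_sum]
  simp only [hterm]
  split_ifs with h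
  · rw [Finset.sum_eq_single (d - m)]
    · rw [if_pos (by omega)]
    · intro i _ hi; rw [if_neg (by omega)]
    · intro hi
      rw [if_pos (by omega), homogeneousComponent_eq_zero _ _ (by simp at hi; omega), zero_mul]
  · exact Finset.sum_eq_zero fun i _ => by rw [if_neg (by omega)]

theorem exists_homogenisation (q : MvPolynomial n R) (d : ℕ) (hd : q.totalDegree ≤ d) :
    ∃ Q : MvPolynomial (Option n) R, Q ∈ homogeneousSubmodule (Option n) R d ∧ dehom Q = q := by
  classical
  refine ⟨∑ e ∈ q.support, C (coeff e q) * X none ^ (d - e.degree) *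
    rename some (monomial e 1), Submodule.sum_mem _ fun e he => ?_, ?_⟩
  · have h1 : e.degree ≤ d := (le_totalDegree (s := e) he).trans hd
    show IsHomogeneous _ d
    have h := ((isHomogeneous_C (Option n) (coeff e q)).mul ((isHomogeneous_X R (none : Option n)).pow (d - e.degree))).mul
      (IsHomogeneous.rename_isHomogeneous (f := some) (isHomogeneous_monomial (n := e.degree) (1 : R) rfl))
    rwa [show 0 + 1 * (d - e.degree) + e.degree = d by omega] at h
  · rw [map_sum]
    conv_rhs => rw [q.as_sum]
    refine Finset.sum_congr rfl fun e _ => ?_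
    rw [map_mul, map_mul, map_pow, dehom, aeval_rename, aeval_X, algHom_C, aeval_monomial]
    rw [show ((fun o => Option.elim o 1 X) ∘ some : n → MvPolynomial n R) = X from rfl]
    simp [monomial_eq]

include hR in
/-- A saturated submodule of a finite free module over a polynomial ring is finitely generated. -/
theorem fg_of_saturated (N : Submodule (MvPolynomial n R) (Fin r → MvPolynomial n R))
    (hN : ∀ (a : R) (f : Fin r → MvPolynomial n R), a ≠ 0 → a • f ∈ N → f ∈ N) : N.FG := by
  classical
  let J : Ideal R := ⨅ P : MaximalSpectrum R, P.asIdeal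
  let T := MvPolynomial (Option n) (R ⧸ J)
  haveI : IsNoetherianRing (R ⧸ J) := isNoetherianRing_quotient_jacobson hR
  let dh : (Fin r → MvPolynomial (Option n) R) →ₗ[R] (Fin r → MvPolynomial n R) :=
    LinearMap.compLeft dehom.toLinearMap (Fin r)
  let K : ℕ → Submodule R (Fin r → MvPolynomial (Option n) R) := fun d =>
    pieces d ⊓ Submodule.comap dh (N.restrictScalars R)
  let red : MvPolynomial (Option n) R →+* T := MvPolynomial.map (Ideal.Quotient.mk J)
  -- the degree pieces are direct summands
  have hsummand : ∀ d, ∃ ρ : pieces (R := R) (n := n) (r := r) d →ₗ[R] pieces (R := R) (n := n) (r := r) d,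
      (∀ F, (ρ F : Fin r → MvPolynomial (Option n) R) ∈ K d) ∧ ∀ F : pieces (R := R) (n := n) (r := r) d, (F : Fin r → MvPolynomial (Option n) R) ∈ K d → ρ F = F := by
    intro d
    haveI := finite_pieces (R := R) (n := n) (r := r) d
    let g : pieces (R := R) (n := n) (r := r) d →ₗ[R] (Fin r → MvPolynomial n R) ⧸ (N.restrictScalars R) :=
      (N.restrictScalars R).mkQ ∘ₗ dh ∘ₗ (pieces d).subtype
    haveI : Module.Free R (LinearMap.range g) := free_of_torsionFree hR _ fun a x ha hax => by
      obtain ⟨⟨_, F, rfl⟩, hF⟩ : ∃ y, y = x := ⟨x, rfl⟩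
      subst hF
      have h := congrArg Subtype.val hax
      refine Subtype.ext ?_
      change a • (N.restrictScalars R).mkQ (dh F.1) = 0 at h
      change (N.restrictScalars R).mkQ (dh F.1) = 0
      rw [← map_smul, Submodule.mkQ_apply, Submodule.Quotient.mk_eq_zero] at h
      rw [Submodule.mkQ_apply, Submodule.Quotient.mk_eq_zero]
      exact hN a _ ha h
    obtain ⟨σ, hσ⟩ := Module.projective_lifting_property g.rangeRestrict LinearMap.id g.surjective_rangeRestrict
    let ρ : pieces (R := R) (n := n) (r := r) d →ₗ[R] pieces (R := R) (n := n) (r := r) d :=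
      LinearMap.id - σ ∘ₗ g.rangeRestrict
    refine ⟨ρ, fun F => ⟨Submodule.coe_mem _, ?_⟩, fun F hF => ?_⟩
    · have h : g.rangeRestrict (ρ F) = 0 := by
        rw [show ρ = LinearMap.id - σ ∘ₗ g.rangeRestrict from rfl, LinearMap.sub_apply, map_sub, LinearMap.comp_apply, ← LinearMap.comp_apply g.rangeRestrict σ, hσ]
        simp
      exact (Submodule.Quotient.mk_eq_zero (N.restrictScalars R) (x := dh (ρ F).1)).mp (congrArg Subtype.val h)
    · have h : g.rangeRestrict F = 0 := Subtype.ext ((Submodule.Quotient.mk_eq_zero _).mpr hF.2)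
      rw [show ρ = LinearMap.id - σ ∘ₗ g.rangeRestrict from rfl, LinearMap.sub_apply, LinearMap.comp_apply, h, map_zero, sub_zero, LinearMap.id_apply]
  have hfg : ∀ d, (K d).FG := by
    intro d
    obtain ⟨ρ, hρ, hρ'⟩ := hsummand d
    haveI := finite_pieces (R := R) (n := n) (r := r) d
    have : K d = LinearMap.range ((pieces d).subtype ∘ₗ ρ) := le_antisymm
      (fun F hF => ⟨⟨F, hF.1⟩, congrArg Subtype.val (hρ' ⟨F, hF.1⟩ hF)⟩) (by rintro _ ⟨F, rfl⟩; exact hρ F)
    rw [this]
    exact Submodule.fg_range _
  have hker : ∀ d, ∀ F ∈ K d, (∀ i, red (F i) = 0) → F ∈ J • K d := by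
    intro d F hF hred
    obtain ⟨ρ, hρ, hρ'⟩ := hsummand d
    have hcoef : ∀ i, ∀ e, coeff e (F i) ∈ J := fun i e => by
      have := congrArg (coeff e) (hred i)
      rwa [coeff_zero, coeff_map, Ideal.Quotient.eq_zero_iff_mem] at this
    have hi : ∀ i, (⟨F i, hF.1 i trivial⟩ : homogeneousSubmodule (Option n) R d) ∈
        J • (⊤ : Submodule R (homogeneousSubmodule (Option n) R d)) := fun i => by
      have hdec : (⟨F i, hF.1 i trivial⟩ : homogeneousSubmodule (Option n) R d) =
          ∑ e ∈ (F i).support.attach, coeff e.1 (F i) • (⟨monomial e.1 1, isHomogeneous_monomial _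
            (by_contra fun hne => (mem_support_iff.mp e.2) ((hF.1 i trivial : (F i).IsHomogeneous d).coeff_eq_zero hne))⟩ :
              homogeneousSubmodule (Option n) R d) := by
        refine Subtype.ext ?_
        rw [Submodule.coe_sum]
        simp only [Submodule.coe_smul, smul_monomial, mul_one, smul_eq_mul]
        rw [Finset.sum_attach (F i).support fun e => monomial e (coeff e (F i))]
        exact (F i).as_sum
      rw [hdec]
      exact Submodule.sum_mem _ fun e _ => Submodule.smul_mem_smul (hcoef i e.1) trivial
    have hmem : (⟨F, hF.1⟩ : pieces (R := R) (n := n) (r := r) d) ∈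
        J • (⊤ : Submodule R (pieces (R := R) (n := n) (r := r) d)) := by
      have hG : (⟨F, hF.1⟩ : pieces (R := R) (n := n) (r := r) d) =
          ∑ i : Fin r, (piecesMap d ∘ₗ LinearMap.single R (fun _ => homogeneousSubmodule (Option n) R d) i)
            ⟨F i, hF.1 i trivial⟩ := by
        simp only [LinearMap.comp_apply, LinearMap.single_apply, ← map_sum, Finset.univ_sum_single]
        rfl
      rw [hG]
      refine Submodule.sum_mem _ fun i _ => ?_
      have h := Submodule.mem_map_of_mem
        (f := piecesMap d ∘ₗ LinearMap.single R (fun _ => homogeneousSubmodule (Option n) R d) i) (hi i)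
      rw [Submodule.map_smul''] at h
      exact Submodule.smul_mono le_rfl le_top h
    have h2 : F = ((pieces d).subtype ∘ₗ ρ) ⟨F, hF.1⟩ := (congrArg Subtype.val (hρ' ⟨F, hF.1⟩ hF)).symm
    rw [h2]
    have h3 := Submodule.mem_map_of_mem (f := (pieces d).subtype ∘ₗ ρ) hmem
    rw [Submodule.map_smul''] at h3
    exact Submodule.smul_mono le_rfl (by rintro _ ⟨G, -, rfl⟩; exact hρ G) h3
  -- the reductions
  let S : Set (Fin r → T) := ⋃ d, (fun F i => red (F i)) '' (K d : Set (Fin r → MvPolynomial (Option n) R))
  obtain ⟨s, hsS, hs⟩ := (Submodule.fg_span_iff_fg_span_finset_subset (R := T) S).mp (IsNoetherian.noetherian _)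
  have hlift : ∀ v : {v // v ∈ s}, ∃ (d : ℕ) (F : Fin r → MvPolynomial (Option n) R),
      F ∈ K d ∧ (fun i => red (F i)) = v.1 := fun v => by
    obtain ⟨d, F, hF, hFv⟩ := Set.mem_iUnion.mp (hsS v.2)
    exact ⟨d, F, hF, hFv⟩
  choose dg G hGK hGv using hlift
  -- the submodule generated by the lifts
  let N' : Submodule (MvPolynomial n R) (Fin r → MvPolynomial n R) := Submodule.span _ (Set.range fun v => dh (G v))
  have hle : ∀ d, K d ≤ Submodule.comap dh (N'.restrictScalars R) := by
    intro d
    suffices K d ≤ K d ⊓ Submodule.comap dh (N'.restrictScalars R) from this.trans inf_le_right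
    refine Submodule.le_of_le_smul_of_le_jacobson_bot (hfg d) iInf_maximal_le_jacobson ?_
    intro F hF
    have hspan : (fun i => red (F i)) ∈ Submodule.span T (s : Set (Fin r → T)) := by
      rw [← hs]; exact Submodule.subset_span (Set.mem_iUnion.mpr ⟨d, F, hF, rfl⟩)
    obtain ⟨c, -, hc⟩ := Submodule.mem_span_finset.mp hspan
    have hc' : ∀ v : {v // v ∈ s}, ∃ C' : MvPolynomial (Option n) R, red C' = c v.1 :=
      fun v => MvPolynomial.map_surjective _ Ideal.Quotient.mk_surjective _
    choose C' hC' using hc'
    let c₀ : {v // v ∈ s} → MvPolynomial (Option n) R := fun v =>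
      if dg v ≤ d then homogeneousComponent (d - dg v) (C' v) else 0
    let F' : Fin r → MvPolynomial (Option n) R := ∑ v, c₀ v • G v
    have hF'K : F' ∈ K d ⊓ Submodule.comap dh (N'.restrictScalars R) := by
      refine Submodule.sum_mem _ fun v _ => ?_
      simp only [c₀]
      split_ifs with hv
      · have hdh : dh (homogeneousComponent (d - dg v) (C' v) • G v) =
            dehom (homogeneousComponent (d - dg v) (C' v)) • dh (G v) := by
          funext i; exact map_mul dehom _ _
        refine ⟨⟨fun i _ => ?_, ?_⟩, ?_⟩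
        · have := (homogeneousComponent_isHomogeneous (d - dg v) (C' v)).mul ((hGK v).1 i trivial)
          rwa [Nat.sub_add_cancel hv] at this
        · show dh _ ∈ N
          rw [hdh]; exact N.smul_mem _ (hGK v).2
        · show dh _ ∈ N'
          rw [hdh]; exact N'.smul_mem _ (Submodule.subset_span ⟨v, rfl⟩)
      · rw [zero_smul]; exact zero_mem _
    have hred' : ∀ i, red ((F - F') i) = 0 := fun i => by
      have hdeg : red (F i) = homogeneousComponent d (red (F i)) :=
        (homogeneousComponent_eq_self ((hF.1 i trivial : (F i).IsHomogeneous d).map _)).symm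
      have hci := congrFun hc i
      rw [Finset.sum_apply, ← Finset.sum_coe_sort] at hci
      rw [Pi.sub_apply, map_sub, sub_eq_zero, hdeg, ← hci, map_sum]
      simp only [F', Finset.sum_apply, map_sum]
      refine Finset.sum_congr rfl fun v _ => ?_
      have hGi : red (G v i) = (v.1 : Fin r → T) i := congrFun (hGv v) i
      have hGh : ((v.1 : Fin r → T) i).IsHomogeneous (dg v) := hGi ▸ ((hGK v).1 i trivial : (G v i).IsHomogeneous _).map _
      simp only [Pi.smul_apply, smul_eq_mul, map_mul, hGi, c₀]
      rw [← hC' v, homogeneousComponent_mul _ _ hGh d]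
      split_ifs with hv
      · rw [show red (homogeneousComponent (d - dg v) (C' v)) = homogeneousComponent (d - dg v) (red (C' v)) from
          map_homogeneousComponent _ _ _]
      · rw [map_zero, zero_mul]
    have hsub : F - F' ∈ J • K d := hker d _ ((K d).sub_mem hF hF'K.1) hred'
    rw [← add_sub_cancel F' F]
    exact Submodule.add_mem_sup hF'K hsub
  refine ⟨Finset.univ.image fun v => dh (G v), ?_⟩
  rw [Finset.coe_image, Finset.coe_univ, Set.image_univ]
  refine le_antisymm (Submodule.span_le.mpr ?_) fun f hf => ?_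
  · rintro _ ⟨v, rfl⟩
    exact (hGK v).2
  · let d := Finset.univ.sup fun i => (f i).totalDegree
    choose Q hQ hQ' using fun i => exists_homogenisation (f i) d
      (Finset.le_sup (f := fun i => (f i).totalDegree) (Finset.mem_univ i))
    have hdQ : dh Q = f := funext hQ'
    have hQK : Q ∈ K d := ⟨fun i _ => hQ i, show dh Q ∈ N by rw [hdQ]; exact hf⟩
    exact hdQ ▸ hle d hQK

end Saturated

end Groth.L05.Prufer
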