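import Mathlib.RingTheory.Valuation.ValuationSubring
import Mathlib.RingTheory.Valuation.ValuationRing
import Mathlib.RingTheory.Localization.AtPrime.Basic
import Mathlib.RingTheory.Spectrum.Maximal.Localization
import Mathlib.GroupTheory.OrderOfElement
import Mathlib.Algebra.CharP.Algebra
import Mathlib.Algebra.Field.Subfield.Basic
import Mathlib.RingTheory.AlgebraicIndependent.TranscendenceBasis
import Mathlib.RingTheory.KrullDimension.Basic
import Mathlib.Algebra.Algebra.ZMod
import Mathlib.RingTheory.Ideal.Operations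

/-!
# Finite intersections of valuation rings
-/

set_option autoImplicit false
set_option linter.style.haveILetI false

universe u v

open Finset

namespace Groth.L05.Prufer

variable {L : Type u} [Field L]

theorem exists_bad_number (F : Type v) [Field F] (a : F) :
    ∃ N : ℕ, 0 < N ∧ ∀ n : ℕ, 2 ≤ n → N ∣ n - 1 → ∑ k ∈ range n, a ^ k ≠ 0 := by
  obtain ⟨q, hq⟩ := CharP.exists F
  refine ⟨(if q = 0 then 1 else q) * (if orderOf a = 0 then 1 else orderOf a), ?_, ?_⟩
  · apply Nat.mul_pos <;> split_ifs <;> omega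
  · intro n hn hdvd h
    by_cases ha : a = 1
    · subst ha
      simp only [one_pow, Finset.sum_const, card_range, nsmul_eq_mul, mul_one] at h
      rw [CharP.cast_eq_zero_iff F q] at h
      rcases eq_or_ne q 0 with rfl | hq0
      · omega
      · have h1 : q ∣ n - 1 := dvd_trans ⟨_, by rw [if_neg hq0]⟩ hdvd
        have h2 : q ∣ 1 := by
          have h3 := Nat.dvd_sub h h1
          rwa [show n - (n - 1) = 1 by omega] at h3
        exact CharP.char_ne_one F q (Nat.dvd_one.mp h2)
    · have hn' : a ^ n = 1 := by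
        have h' := geom_sum_mul a n
        rw [h, zero_mul] at h'
        exact (sub_eq_zero.mp h'.symm)
      have h0 : orderOf a ≠ 0 := fun h0 => by
        have := orderOf_dvd_of_pow_eq_one hn'
        rw [h0, zero_dvd_iff] at this; omega
      have h1 : orderOf a ∣ n - 1 := dvd_trans ⟨if q = 0 then 1 else q, by rw [if_neg h0, mul_comm]⟩ hdvd
      have h2 : orderOf a ∣ 1 := by
        have h3 := Nat.dvd_sub (orderOf_dvd_of_pow_eq_one hn') h1
        rwa [show n - (n - 1) = 1 by omega] at h3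
      exact ha (orderOf_eq_one_iff.mp (Nat.dvd_one.mp h2))

/-- Bourbaki's lemma. -/
theorem exists_geom_sum {ι : Type v} [Finite ι] (V : ι → ValuationSubring L) (x : L) :
    ∃ n, 2 ≤ n ∧ (∑ k ∈ range n, x ^ k) ≠ 0 ∧
      ∀ i, ∀ k < n, x ^ k / (∑ j ∈ range n, x ^ j) ∈ V i := by
  classical
  haveI := Fintype.ofFinite ι
  rcases isEmpty_or_nonempty ι with hι | hι
  · obtain ⟨N, hN, h⟩ := exists_bad_number L x
    exact ⟨N + 1, by omega, h _ (by omega) (by simp), fun i => isEmptyElim i⟩
  have key : ∀ i, ∃ N : ℕ, 0 < N ∧ ∀ n : ℕ, 2 ≤ n → N ∣ n - 1 → (∑ k ∈ range n, x ^ k) ≠ 0 ∧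
      ∀ k < n, x ^ k / (∑ j ∈ range n, x ^ j) ∈ V i := by
    intro i
    by_cases hx : x ∈ V i
    · obtain ⟨N, hN, h⟩ := exists_bad_number (IsLocalRing.ResidueField (V i)) (IsLocalRing.residue _ ⟨x, hx⟩)
      refine ⟨N, hN, fun n hn hd => ?_⟩
      have hu : IsUnit (∑ k ∈ range n, (⟨x, hx⟩ : V i) ^ k) := by
        have := h n hn hd
        rwa [← IsLocalRing.residue_ne_zero_iff_isUnit, map_sum, Finset.sum_congr rfl fun k _ => map_pow _ _ _]
      obtain ⟨w, hw⟩ := hu
      have hwv : (∑ k ∈ range n, x ^ k) = ((w : V i) : L) := by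
        rw [hw]; push_cast; rfl
      have hne : ((w : V i) : L) ≠ 0 := fun h0 => w.ne_zero (Subtype.ext h0)
      refine ⟨hwv ▸ hne, fun k _ => ?_⟩
      rw [hwv, show x ^ k / ((w : V i) : L) = (((⟨x, hx⟩ : V i) ^ k * ↑w⁻¹ : V i) : L) from ?_]
      · exact SetLike.coe_mem _
      · rw [div_eq_iff hne, ← MulMemClass.coe_mul, mul_assoc, Units.inv_mul, mul_one]
        push_cast; rfl
    · refine ⟨1, one_pos, fun n hn _ => ?_⟩
      have hx0 : x ≠ 0 := fun h0 => hx (h0 ▸ zero_mem _)
      have hy : x⁻¹ ∈ V i := ((V i).mem_or_inv_mem x).resolve_left hx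
      have hnu : ¬ IsUnit (⟨x⁻¹, hy⟩ : V i) := fun h => by
        obtain ⟨w, hw⟩ := h
        apply hx
        have h1 := congrArg Subtype.val w.mul_inv
        rw [hw] at h1
        have h2 : x = ((↑w⁻¹ : V i) : L) := by
          push_cast at h1
          rwa [inv_mul_eq_iff_eq_mul₀ hx0, mul_one, eq_comm] at h1
        exact h2 ▸ SetLike.coe_mem _
      have hu : IsUnit (∑ k ∈ range n, (⟨x⁻¹, hy⟩ : V i) ^ k) := by
        obtain ⟨m, rfl⟩ : ∃ m, n = m + 1 := ⟨n - 1, by omega⟩
        rw [Finset.sum_range_succ']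
        refine (IsLocalRing.isUnit_or_isUnit_of_add_one (a := -∑ k ∈ range m, (⟨x⁻¹, hy⟩ : V i) ^ (k + 1))
          (b := (∑ k ∈ range m, (⟨x⁻¹, hy⟩ : V i) ^ (k + 1)) + _ ^ 0) (by simp)).resolve_left fun h => ?_
        have hmem : -∑ k ∈ range m, (⟨x⁻¹, hy⟩ : V i) ^ (k + 1) ∈ IsLocalRing.maximalIdeal (V i) :=
          neg_mem (sum_mem fun k _ => Ideal.pow_mem_of_mem _ ((IsLocalRing.mem_maximalIdeal _).mpr hnu) _ k.succ_pos)
        exact (IsLocalRing.mem_maximalIdeal _).mp hmem h
      obtain ⟨w, hw⟩ := hu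
      have hne : ((w : V i) : L) ≠ 0 := fun h0 => w.ne_zero (Subtype.ext h0)
      have hsum : (∑ k ∈ range n, x ^ k) = x ^ (n - 1) * ((w : V i) : L) := by
        rw [hw]; push_cast
        rw [Finset.mul_sum, ← Finset.sum_range_reflect]
        refine Finset.sum_congr rfl fun k hk => ?_
        rw [inv_pow, ← pow_sub₀ _ hx0 (by rw [Finset.mem_range] at hk; omega)]
      refine ⟨hsum ▸ mul_ne_zero (pow_ne_zero _ hx0) hne, fun k hk => ?_⟩
      rw [hsum, show x ^ k / (x ^ (n - 1) * ((w : V i) : L)) = (((⟨x⁻¹, hy⟩ : V i) ^ (n - 1 - k) * ↑w⁻¹ : V i) : L) from ?_]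
      · exact SetLike.coe_mem _
      · rw [div_eq_iff (mul_ne_zero (pow_ne_zero _ hx0) hne), mul_comm (x ^ _) _, ← mul_assoc, ← MulMemClass.coe_mul,
          mul_assoc, Units.inv_mul, mul_one]
        push_cast
        rw [inv_pow, pow_sub₀ _ hx0 (by omega), mul_inv, inv_inv, mul_comm _ (x ^ k), mul_assoc,
          inv_mul_cancel₀ (pow_ne_zero _ hx0), mul_one]
  choose N hN hgood using key
  have hn : 2 ≤ 1 + ∏ i, N i := by
    have : 0 < ∏ i, N i := Finset.prod_pos fun i _ => hN i
    omega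
  exact ⟨1 + ∏ i, N i, hn,
    (hgood (Classical.arbitrary ι) _ hn (by simpa using Finset.dvd_prod_of_mem N (Finset.mem_univ _))).1,
    fun i => (hgood i _ hn (by simpa using Finset.dvd_prod_of_mem N (Finset.mem_univ i))).2⟩

section Intersection

variable {S : Type v} [CommRing S] [IsDomain S] (g : S →+* L) (hg : Function.Injective g)
  {ι : Type v} [Finite ι] (V : ι → ValuationSubring L) (K : Subfield L)
  (hS : ∀ x : L, x ∈ g.range ↔ x ∈ K ∧ ∀ i, x ∈ V i)

include hS in
theorem exists_chain (x : L) (hx : x ∈ K) : ∃ (n : ℕ) (c : ℕ → S), 2 ≤ n ∧ g (c 0) ≠ 0 ∧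
    (∑ k ∈ range n, g (c k)) = 1 ∧ ∀ k, k + 1 < n → g (c (k + 1)) = x * g (c k) := by
  classical
  obtain ⟨n, hn, hp, hV⟩ := exists_geom_sum V x
  have hmem : ∀ k < n, x ^ k / (∑ j ∈ range n, x ^ j) ∈ g.range := fun k hk =>
    (hS _).mpr ⟨K.div_mem (K.pow_mem hx _) (sum_mem fun j _ => K.pow_mem hx _), fun i => hV i k hk⟩
  choose c hc using hmem
  refine ⟨n, fun k => if h : k < n then c k h else 0, hn, ?_, ?_, fun k hk => ?_⟩
  · dsimp only
    rw [dif_pos (by omega : (0:ℕ) < n), hc, pow_zero]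
    exact div_ne_zero one_ne_zero hp
  · conv_lhs => rw [Finset.sum_congr rfl fun k hk => show g (if h : k < n then c k h else 0) = x ^ k / _ by
      rw [dif_pos (Finset.mem_range.mp hk), hc]]
    simp only [div_eq_mul_inv]; rw [← Finset.sum_mul, mul_inv_cancel₀ hp]
  · dsimp only
    rw [dif_pos hk, dif_pos (by omega), hc, hc, pow_succ', mul_div_assoc]

include hS in
theorem fraction_of_mem (x : L) (hx : x ∈ K) :
    ∃ a b : L, a ∈ g.range ∧ b ∈ g.range ∧ b ≠ 0 ∧ x = a / b := by
  obtain ⟨n, c, hn, h0, -, hstep⟩ := exists_chain g V K hS x hx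
  exact ⟨g (c 1), g (c 0), ⟨_, rfl⟩, ⟨_, rfl⟩, h0, by rw [eq_div_iff h0, hstep 0 (by omega)]⟩

include hS hg in
theorem valuationRing_localization (q : Ideal S) [q.IsPrime] : ValuationRing (Localization.AtPrime q) := by
  have key : ∀ a b : S, ∃ e f : S, (e ∉ q ∧ b * e = a * f) ∨ (e ∉ q ∧ a * e = b * f) := by
    intro a b
    by_cases ha : a = 0
    · exact ⟨1, 0, Or.inr ⟨(q.ne_top_iff_one).mp (Ideal.IsPrime.ne_top ‹_›), by simp [ha]⟩⟩
    have hga : g a ≠ 0 := (map_ne_zero_iff g hg).mpr ha
    obtain ⟨n, c, hn, -, hsum, hstep⟩ := exists_chain g V K hS (g b / g a)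
      (K.div_mem ((hS _).mp ⟨b, rfl⟩).1 ((hS _).mp ⟨a, rfl⟩).1)
    have hk : ∃ k ∈ range n, c k ∉ q := by
      by_contra h
      push Not at h
      refine (q.ne_top_iff_one).mp (Ideal.IsPrime.ne_top ‹_›) ?_
      rw [show (1 : S) = ∑ k ∈ range n, c k from hg (by rw [map_one, map_sum, hsum])]
      exact sum_mem h
    obtain ⟨k, hk, hkq⟩ := hk
    rw [Finset.mem_range] at hk
    have hrel : ∀ j, j + 1 < n → b * c j = a * c (j + 1) := fun j hj => hg (by
      rw [map_mul, map_mul, hstep j hj, ← mul_assoc, mul_div_cancel₀ _ hga])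
    by_cases hk' : k + 1 < n
    · exact ⟨c k, c (k + 1), Or.inl ⟨hkq, hrel k hk'⟩⟩
    · obtain ⟨j, rfl⟩ : ∃ j, k = j + 1 := ⟨k - 1, by omega⟩
      exact ⟨c (j + 1), c j, Or.inr ⟨hkq, (hrel j hk).symm⟩⟩
  haveI : PreValuationRing (Localization.AtPrime q) := ⟨fun X Y => by
    obtain ⟨⟨a, s⟩, rfl⟩ := IsLocalization.mk'_surjective q.primeCompl X
    obtain ⟨⟨b, t⟩, rfl⟩ := IsLocalization.mk'_surjective q.primeCompl Y
    dsimp only [Function.uncurry]
    obtain ⟨e, f, h | h⟩ := key (a * t) (b * s)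
    · refine ⟨IsLocalization.mk' _ f (⟨e, h.1⟩ : q.primeCompl), Or.inl ?_⟩
      rw [← IsLocalization.mk'_mul, IsLocalization.mk'_eq_iff_eq]
      congr 1; simp only [Submonoid.coe_mul]; linear_combination (-1 : S) * h.2
    · refine ⟨IsLocalization.mk' _ f (⟨e, h.1⟩ : q.primeCompl), Or.inr ?_⟩
      rw [← IsLocalization.mk'_mul, IsLocalization.mk'_eq_iff_eq]
      congr 1; simp only [Submonoid.coe_mul]; linear_combination (-1 : S) * h.2⟩
  exact .mk

include hS hg in
theorem finite_maximalSpectrum : Finite (MaximalSpectrum S) := by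
  classical
  haveI := Fintype.ofFinite ι
  let g' : ∀ i, S →+* V i := fun i => g.codRestrict (V i).toSubring fun s => ((hS _).mp ⟨s, rfl⟩).2 i
  let P : ι → Ideal S := fun i => (IsLocalRing.maximalIdeal (V i)).comap (g' i)
  have hu : ∀ s : S, (∀ i, s ∉ P i) → s = 0 ∨ IsUnit s := by
    intro s hs
    by_cases h0 : s = 0
    · exact Or.inl h0
    obtain ⟨t, ht⟩ : (g s)⁻¹ ∈ g.range := by
      refine (hS _).mpr ⟨K.inv_mem ((hS _).mp ⟨s, rfl⟩).1, fun i => ?_⟩
      obtain ⟨w, hw⟩ : IsUnit (g' i s) := by_contra fun h => hs i ((IsLocalRing.mem_maximalIdeal _).mpr h)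
      have h1 := congrArg Subtype.val w.mul_inv
      rw [hw] at h1
      have h2 : (g s)⁻¹ = ((↑w⁻¹ : V i) : L) := inv_eq_of_mul_eq_one_right h1
      exact h2 ▸ SetLike.coe_mem _
    exact Or.inr (IsUnit.of_mul_eq_one t (hg (by rw [map_mul, ht, map_one, mul_inv_cancel₀ ((map_ne_zero_iff g hg).mpr h0)])))
  have hP : ∀ M : MaximalSpectrum S, ∃ i : Option ι, M.asIdeal = i.elim ⊥ P := by
    intro M
    have hsub : (M.asIdeal : Set S) ⊆ ⋃ i ∈ (↑(Finset.univ : Finset (Option ι)) : Set (Option ι)),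
        (i.elim ⊥ P : Ideal S) := by
      intro s hs
      simp only [Finset.coe_univ, Set.mem_univ, Set.iUnion_true, Set.mem_iUnion, SetLike.mem_coe]
      by_cases h : ∃ i, s ∈ P i
      · obtain ⟨i, hi⟩ := h
        exact ⟨some i, hi⟩
      · rcases hu s (not_exists.mp h) with h' | h'
        · exact ⟨none, h' ▸ zero_mem _⟩
        · exact absurd (Ideal.eq_top_of_isUnit_mem _ hs h') M.isMaximal.ne_top
    obtain ⟨i, -, hi⟩ := (Ideal.subset_union_prime none none fun i _ _ _ => by
      cases i with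
      | none => exact Ideal.isPrime_bot
      | some i => exact Ideal.IsPrime.comap (g' i)).mp hsub
    refine ⟨i, M.isMaximal.eq_of_le ?_ hi⟩
    cases i with
    | none => exact bot_ne_top
    | some i => exact (Ideal.IsPrime.comap (g' i)).ne_top
  choose i hi using hP
  exact Finite.of_injective i fun M N h => MaximalSpectrum.ext (by rw [hi M, hi N, h])

end Intersection

section Rank

/-- One term of a finite family divides all others. -/
theorem exists_dvd_all {V : Type u} [CommRing V] [PreValuationRing V] {α : Type v} (s : Finset α)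
    (hs : s.Nonempty) (f : α → V) : ∃ a ∈ s, ∀ b ∈ s, f a ∣ f b := by
  induction hs using Finset.Nonempty.cons_induction with
  | singleton a => exact ⟨a, by simp, by simp⟩
  | cons a s ha hs ih =>
    obtain ⟨c, hc, hc'⟩ := ih
    rcases ValuationRing.dvd_total (f a) (f c) with h | h
    · refine ⟨a, by simp, fun b hb => ?_⟩
      rcases Finset.mem_cons.mp hb with rfl | hb
      exacts [dvd_rfl, h.trans (hc' b hb)]
    · refine ⟨c, by simp [hc], fun b hb => ?_⟩
      rcases Finset.mem_cons.mp hb with rfl | hb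
      exacts [h, hc' b hb]

variable {V : Type u} [CommRing V] [IsDomain V] [IsLocalRing V] {m : ℕ}
  (P : Fin (m + 1) → Ideal V) (hP : ∀ i, (P i).IsPrime) (hmono : Monotone P)
  (x : Fin m → V) (hxP : ∀ i, x i ∈ P i.succ ∧ x i ∉ P i.castSucc)

include hP hmono hxP in
/-- Monomials in elements separated by a chain of primes have distinct values. -/
theorem eq_of_associated_monomial (a b : Fin m → ℕ) (h : Associated (∏ i, x i ^ a i) (∏ i, x i ^ b i)) :
    a = b := by
  classical
  have hx0 : ∀ i, x i ≠ 0 := fun i h0 => (hxP i).2 (h0 ▸ zero_mem _)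
  have hsplit : ∀ c : Fin m → ℕ, (∀ i, min (a i) (b i) ≤ c i) →
      (∏ i, x i ^ c i) = (∏ i, x i ^ (c i - min (a i) (b i))) * ∏ i, x i ^ min (a i) (b i) := fun c hc => by
    rw [← Finset.prod_mul_distrib]
    exact Finset.prod_congr rfl fun i _ => by rw [← pow_add, Nat.sub_add_cancel (hc i)]
  rw [hsplit a fun i => min_le_left _ _, hsplit b fun i => min_le_right _ _] at h
  replace h := h.of_mul_right (Associated.refl _) (Finset.prod_ne_zero_iff.mpr fun i _ => pow_ne_zero _ (hx0 i))
  by_contra hab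
  obtain ⟨j, hj, hjmin⟩ : ∃ j, a j ≠ b j ∧ ∀ i, a i ≠ b i → j ≤ i := by
    obtain ⟨j, hj, hjmin⟩ := Finset.exists_minimal (s := Finset.univ.filter fun i => a i ≠ b i)
      (by obtain ⟨i, hi⟩ := Function.ne_iff.mp hab; exact ⟨i, by simpa using hi⟩)
    refine ⟨j, by simpa using hj, fun i hi => ?_⟩
    rcases le_total j i with h' | h'
    exacts [h', hjmin (by simpa using hi) h']
  have aux : ∀ c d : Fin m → ℕ, Associated (∏ i, x i ^ c i) (∏ i, x i ^ d i) → c j ≠ 0 → d j = 0 →
      (∀ i, i < j → d i = 0) → False := by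
    intro c d hcd hc hd hlt
    haveI := hP j.succ
    have h1 : (∏ i, x i ^ c i) ∈ P j.succ :=
      Ideal.mem_of_dvd _ (Finset.dvd_prod_of_mem _ (Finset.mem_univ j)) (Ideal.pow_mem_of_mem _ (hxP j).1 _ (Nat.pos_of_ne_zero hc))
    have h2 : (∏ i, x i ^ d i) ∈ P j.succ := Ideal.mem_of_dvd _ hcd.dvd h1
    obtain ⟨i, -, hi⟩ := (Ideal.IsPrime.prod_mem_iff).mp h2
    by_cases hdi : d i = 0
    · rw [hdi, pow_zero] at hi
      exact (Ideal.ne_top_iff_one _).mp (hP j.succ).ne_top hi
    · have hij : j < i := by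
        rcases lt_trichotomy i j with h' | h' | h'
        · exact absurd (hlt i h') hdi
        · exact absurd (h' ▸ hd) hdi
        · exact h'
      exact (hxP i).2 (hmono (Fin.succ_le_castSucc_iff.mpr hij) (((hP j.succ).mem_of_pow_mem _ hi)))
  have heq : ∀ i, i < j → a i = b i := fun i hi => by_contra fun hne => absurd (hjmin i hne) (not_le.mpr hi)
  rcases lt_or_gt_of_ne hj with h' | h'
  · exact aux _ _ h.symm (by omega) (by omega) fun i hi => by have := heq i hi; omega
  · exact aux _ _ h (by omega) (by omega) fun i hi => by have := heq i hi; omega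

include hP hmono hxP in
/-- All but one of the separating elements are algebraically independent over the prime ring. -/
theorem exists_algebraicIndependent [PreValuationRing V] (q : ℕ) [CharP V q] [Algebra (ZMod q) V] (hm : 0 < m) :
    ∃ j : Fin m, AlgebraicIndependent (ZMod q) fun i : {i : Fin m // i ≠ j} => x i.1 := by
  classical
  by_contra hcon
  push Not at hcon
  have hx0 : ∀ i, x i ≠ 0 := fun i h0 => (hxP i).2 (h0 ▸ zero_mem _)
  let I : Ideal ℤ := (IsLocalRing.maximalIdeal V).comap (Int.castRingHom V)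
  obtain ⟨p, hp⟩ : ∃ p : ℤ, I = Ideal.span {p} := (IsPrincipalIdealRing.principal I).principal
  let π : V := if (p : V) = 0 then 1 else (p : V)
  have hπ0 : π ≠ 0 := by simp only [π]; split_ifs with h; exacts [one_ne_zero, h]
  have hcoef : ∀ c : ZMod q, algebraMap (ZMod q) V c ≠ 0 → ∃ e : ℕ, Associated (algebraMap (ZMod q) V c) (π ^ e) := by
    intro c hc
    obtain ⟨z, rfl⟩ := ZMod.intCast_surjective c
    rw [map_intCast] at hc ⊢
    have hnd : ∀ w : ℤ, ¬ p ∣ w → IsUnit (w : V) := fun w hw => by_contra fun h => hw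
      (Ideal.mem_span_singleton.mp (hp ▸ (show w ∈ I from (IsLocalRing.mem_maximalIdeal _).mpr h)))
    by_cases hp0 : (p : V) = 0
    · refine ⟨0, ?_⟩
      rw [pow_zero, associated_one_iff_isUnit]
      exact hnd z fun ⟨w, hw⟩ => hc (by rw [hw, Int.cast_mul, hp0, zero_mul])
    · have hπ : π = (p : V) := if_neg hp0
      have hfin : FiniteMultiplicity p z := by
        rw [Int.finiteMultiplicity_iff]
        refine ⟨fun h => ?_, fun h => hc (by rw [h, Int.cast_zero])⟩
        rcases Int.natAbs_eq p with hpe | hpe <;> rw [h] at hpe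
        · exact (Ideal.IsPrime.comap (Int.castRingHom V) (K := IsLocalRing.maximalIdeal V)).ne_top
            (show I = ⊤ by rw [hp, hpe]; simp)
        · exact (Ideal.IsPrime.comap (Int.castRingHom V) (K := IsLocalRing.maximalIdeal V)).ne_top
            (show I = ⊤ by rw [hp, hpe]; simp)
      obtain ⟨w, hw, hw'⟩ := hfin.exists_eq_pow_mul_and_not_dvd
      refine ⟨multiplicity p z, ?_⟩
      rw [hπ]
      conv_lhs => rw [hw, Int.cast_mul, Int.cast_pow]
      exact associated_mul_unit_left _ _ (hnd w hw')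
  have key : ∀ j : Fin m, ∃ (a b : Fin m → ℕ) (d : ℕ), 0 < d ∧ a j = 0 ∧ b j = 0 ∧ a ≠ b ∧
      Associated ((∏ i, x i ^ a i) * π ^ d) (∏ i, x i ^ b i) := by
    intro j
    have hj := hcon j
    rw [algebraicIndependent_iff] at hj
    push Not at hj
    obtain ⟨Q, hQ, hQ0⟩ := hj
    let ext : ({i : Fin m // i ≠ j} →₀ ℕ) → Fin m → ℕ := fun e i => if h : i ≠ j then e ⟨i, h⟩ else 0
    have hinj : Function.Injective ext := fun e e' h => by
      ext ⟨i, hi⟩
      simpa [ext, hi] using congrFun h i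
    have hmon : ∀ e : {i : Fin m // i ≠ j} →₀ ℕ,
        (e.prod fun i k => x i.1 ^ k) = ∏ i, x i ^ ext e i := fun e => by
      rw [Finsupp.prod_fintype _ _ fun _ => pow_zero _, ← Finset.prod_subtype (Finset.univ.erase j)
        (fun i => by simp) (fun i => x i ^ ext e i) |>.trans (Finset.prod_congr rfl fun i _ => by simp [ext, i.2]),
        Finset.prod_erase _ (by simp [ext])]
    let f : ({i : Fin m // i ≠ j} →₀ ℕ) → V := fun e => algebraMap (ZMod q) V (MvPolynomial.coeff e Q) * ∏ i, x i ^ ext e i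
    have hsum : ∑ e ∈ Q.support, f e = 0 := by
      rw [← hQ, MvPolynomial.aeval_def, MvPolynomial.eval₂_eq]
      refine Finset.sum_congr rfl fun e _ => ?_
      simp only [f]; rw [← hmon e]; rfl
    have hne : Q.support.Nonempty := MvPolynomial.support_nonempty.mpr hQ0
    have hfne : ∀ e ∈ Q.support, f e ≠ 0 := fun e he => by
      refine mul_ne_zero ?_ (Finset.prod_ne_zero_iff.mpr fun i _ => pow_ne_zero _ (hx0 i))
      rw [Ne, map_eq_zero_iff _ (show Function.Injective (algebraMap (ZMod q) V) from ?_)]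
      · exact MvPolynomial.mem_support_iff.mp he
      · rw [Subsingleton.elim (algebraMap (ZMod q) V) (ZMod.castHom dvd_rfl V)]
        exact ZMod.castHom_injective V
    obtain ⟨e₀, he₀, hmin⟩ := exists_dvd_all Q.support hne f
    obtain ⟨e₁, he₁, hne₁, hass⟩ : ∃ e₁ ∈ Q.support, e₁ ≠ e₀ ∧ Associated (f e₀) (f e₁) := by
      by_contra h
      push Not at h
      choose g hg using fun e he => hmin e he
      have h1 : f e₀ * (1 + ∑ e ∈ (Q.support.erase e₀).attach, g e.1 (Finset.mem_of_mem_erase e.2)) = 0 := by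
        rw [mul_add, mul_one, Finset.mul_sum, Finset.sum_congr rfl fun e _ => (hg e.1 (Finset.mem_of_mem_erase e.2)).symm,
          Finset.sum_attach _ f, Finset.add_sum_erase _ _ he₀, hsum]
      have hmem : (∑ e ∈ (Q.support.erase e₀).attach, g e.1 (Finset.mem_of_mem_erase e.2)) ∈ IsLocalRing.maximalIdeal V :=
        sum_mem fun e _ => (IsLocalRing.mem_maximalIdeal _).mpr fun hu => h e.1 (Finset.mem_of_mem_erase e.2)
          (Finset.ne_of_mem_erase e.2) (by rw [hg e.1 (Finset.mem_of_mem_erase e.2)]; exact (associated_mul_unit_right _ _ hu))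
      refine (IsLocalRing.maximalIdeal.isMaximal V).ne_top ((Ideal.eq_top_iff_one _).mpr ?_)
      rw [eq_neg_of_add_eq_zero_left ((mul_eq_zero.mp h1).resolve_left (hfne _ he₀))]
      exact neg_mem hmem
    obtain ⟨k₀, hk₀⟩ := hcoef _ (left_ne_zero_of_mul (hfne _ he₀))
    obtain ⟨k₁, hk₁⟩ := hcoef _ (left_ne_zero_of_mul (hfne _ he₁))
    have h2 : Associated (π ^ k₀ * ∏ i, x i ^ ext e₀ i) (π ^ k₁ * ∏ i, x i ^ ext e₁ i) :=
      ((hk₀.mul_right _).symm.trans hass).trans (hk₁.mul_right _)
    have hd : ∀ e, ext e j = 0 := fun e => by simp [ext]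
    have hab : ext e₀ ≠ ext e₁ := fun h => hne₁ (hinj h).symm
    have hdiv : ∀ (a b : Fin m → ℕ) (k l : ℕ), l ≤ k → a ≠ b → Associated (π ^ k * ∏ i, x i ^ a i) (π ^ l * ∏ i, x i ^ b i) →
        Associated ((∏ i, x i ^ a i) * π ^ (k - l)) (∏ i, x i ^ b i) := fun a b k l hkl _ h => by
      refine Associated.of_mul_left ?_ (Associated.refl (π ^ l)) (pow_ne_zero _ hπ0)
      rwa [mul_left_comm, ← pow_add, Nat.add_sub_cancel' hkl, mul_comm]
    have hpos : ∀ (a b : Fin m → ℕ) (k l : ℕ), l ≤ k → a ≠ b → Associated (π ^ k * ∏ i, x i ^ a i) (π ^ l * ∏ i, x i ^ b i) →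
        0 < k - l := fun a b k l hkl hne h => by
      by_contra h0
      have h3 := hdiv a b k l hkl hne h
      rw [show k - l = 0 by omega, pow_zero, mul_one] at h3
      exact hne (eq_of_associated_monomial P hP hmono x hxP a b h3)
    rcases le_total k₁ k₀ with hk | hk
    · exact ⟨_, _, _, hpos _ _ _ _ hk hab h2, hd e₀, hd e₁, hab, hdiv _ _ _ _ hk hab h2⟩
    · exact ⟨_, _, _, hpos _ _ _ _ hk hab.symm h2.symm, hd e₁, hd e₀, hab.symm, hdiv _ _ _ _ hk hab.symm h2.symm⟩
  obtain ⟨a, b, d, hd, -, -, hab, h⟩ := key ⟨0, hm⟩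
  obtain ⟨i, hi⟩ := Function.ne_iff.mp hab
  obtain ⟨a', b', d', hd', ha', hb', -, h'⟩ := key i
  have h3 := (h.pow_pow (n := d')).mul_mul (h'.pow_pow (n := d)).symm
  simp only [mul_pow, ← pow_mul, ← Finset.prod_pow] at h3
  rw [mul_right_comm, ← mul_assoc (∏ i, x i ^ (b i * d')), mul_comm d' d, ← Finset.prod_mul_distrib, ← Finset.prod_mul_distrib] at h3
  simp only [← pow_add] at h3
  have h4 := eq_of_associated_monomial P hP hmono x hxP _ _
    (h3.of_mul_right (Associated.refl _) (pow_ne_zero _ hπ0))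
  have h5 := congrFun h4 i
  simp only [ha', hb', zero_mul, add_zero] at h5
  exact hi (Nat.eq_of_mul_eq_mul_right hd' h5)

end Rank

section FiniteDim

variable {S : Type v} [CommRing S] [IsDomain S] (g : S →+* L) (hg : Function.Injective g)
  {ι : Type v} [Finite ι] (V : ι → ValuationSubring L)

include hg in
/-- A finite intersection of valuation rings of a finitely generated field has finite dimension. -/
theorem ringKrullDim_lt_top_of_closure (t : Finset L)
    (hS : ∀ x : L, x ∈ g.range ↔ x ∈ Subfield.closure (t : Set L) ∧ ∀ i, x ∈ V i) : ringKrullDim S < ⊤ := by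
  classical
  let K : Subfield L := Subfield.closure (t : Set L)
  obtain ⟨q, hq⟩ := CharP.exists L
  haveI : CharP S q := (RingHom.charP_iff g hg q).mpr hq
  haveI : CharP K q := (RingHom.charP_iff K.subtype Subtype.val_injective q).mpr hq
  letI : Algebra (ZMod q) S := ZMod.algebra S q
  letI : Algebra (ZMod q) K := ZMod.algebra K q
  have hKinj : Function.Injective (algebraMap (ZMod q) K) := by
    rw [Subsingleton.elim (algebraMap (ZMod q) K) (ZMod.castHom dvd_rfl K)]
    exact ZMod.castHom_injective K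
  haveI : IsDomain (ZMod q) := hKinj.isDomain (algebraMap (ZMod q) K)
  let T : Set K := Subtype.val ⁻¹' (t : Set L)
  have htr : Algebra.trdeg (ZMod q) K ≤ (t.card : Cardinal) := by
    haveI : Algebra.IsAlgebraic (Algebra.adjoin (ZMod q) T) K := by
      haveI : IsFractionRing (Algebra.adjoin (ZMod q) T) K := by
        refine IsFractionRing.of_field _ _ fun z => ?_
        obtain ⟨y, hy, w, hw, hyw⟩ := Subfield.mem_closure_iff.mp z.2
        have hlift : ∀ y : L, y ∈ Subring.closure (t : Set L) → ∃ a : Algebra.adjoin (ZMod q) T, ((a : K) : L) = y := by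
          intro y hy
          induction hy using Subring.closure_induction with
          | mem u hu => exact ⟨⟨⟨u, Subfield.subset_closure hu⟩, Algebra.subset_adjoin hu⟩, rfl⟩
          | zero => exact ⟨0, rfl⟩
          | one => exact ⟨1, rfl⟩
          | add u v _ _ hu hv => obtain ⟨a, rfl⟩ := hu; obtain ⟨b, rfl⟩ := hv; exact ⟨a + b, rfl⟩
          | neg u _ hu => obtain ⟨a, rfl⟩ := hu; exact ⟨-a, rfl⟩
          | mul u v _ _ hu hv => obtain ⟨a, rfl⟩ := hu; obtain ⟨b, rfl⟩ := hv; exact ⟨a * b, rfl⟩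
        obtain ⟨a, rfl⟩ := hlift y hy
        obtain ⟨b, rfl⟩ := hlift w hw
        exact ⟨a, b, Subtype.ext (by push_cast; exact hyw.symm)⟩
      exact IsLocalization.isAlgebraic K (nonZeroDivisors (Algebra.adjoin (ZMod q) T))
    refine (Algebra.IsAlgebraic.trdeg_le_cardinalMk (ZMod q) T).trans ?_
    rw [← Cardinal.mk_coe_finset]
    exact Cardinal.mk_le_of_injective (f := fun u : T => (⟨u.1.1, u.2⟩ : {u // u ∈ t}))
      fun u v h => Subtype.ext (Subtype.ext (congrArg Subtype.val h :))
  let g' : S →ₐ[ZMod q] K :=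
    { g.codRestrict K.toSubring fun s => ((hS _).mp ⟨s, rfl⟩).1 with
      commutes' := fun r => RingHom.congr_fun (Subsingleton.elim
        ((g.codRestrict K.toSubring fun s => ((hS _).mp ⟨s, rfl⟩).1).comp (algebraMap (ZMod q) S)) (algebraMap (ZMod q) K)) r }
  have hg' : Function.Injective g' := fun a b h => hg (congrArg Subtype.val h :)
  have hb : ∀ l : LTSeries (PrimeSpectrum S), l.length ≤ t.card + 1 := by
    intro l
    by_contra hlen
    push Not at hlen
    let ql : Ideal S := (l.last).asIdeal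
    haveI := valuationRing_localization g hg V K hS ql
    let W := Localization.AtPrime ql
    letI : Algebra (ZMod q) W := ((algebraMap S W).comp (algebraMap (ZMod q) S)).toAlgebra
    have hW : Function.Injective (algebraMap S W) := IsLocalization.injective W ql.primeCompl_le_nonZeroDivisors
    haveI : CharP W q := (RingHom.charP_iff (algebraMap S W) hW q).mp ‹_›
    let f : S →ₐ[ZMod q] W := { algebraMap S W with commutes' := fun r => rfl }
    have hle : ∀ i, (l i).asIdeal ≤ ql := fun i => l.strictMono.monotone (Fin.le_last i)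
    have hd : ∀ i, Disjoint (ql.primeCompl : Set S) ((l i).asIdeal : Set S) := fun i =>
      Set.disjoint_left.mpr fun z hz hz' => hz (hle i hz')
    let P : Fin (l.length + 1) → Ideal W := fun i => (l i).asIdeal.map (algebraMap S W)
    have hPc : ∀ i, (P i).comap (algebraMap S W) = (l i).asIdeal := fun i =>
      IsLocalization.comap_map_of_isPrime_disjoint ql.primeCompl W (l i).isPrime (hd i)
    have hP : ∀ i, (P i).IsPrime := fun i => IsLocalization.isPrime_of_isPrime_disjoint ql.primeCompl W _ (l i).isPrime (hd i)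
    have hy : ∀ i : Fin l.length, ∃ y, y ∈ (l i.succ).asIdeal ∧ y ∉ (l i.castSucc).asIdeal := fun i =>
      SetLike.exists_of_lt (show (l i.castSucc).asIdeal < (l i.succ).asIdeal from l.step i)
    choose y hy1 hy2 using hy
    obtain ⟨j, hj⟩ := exists_algebraicIndependent P hP
      (fun a b hab => Ideal.map_mono (show (l a).asIdeal ≤ (l b).asIdeal from l.strictMono.monotone hab))
      (fun i => algebraMap S W (y i)) (fun i => ⟨Ideal.mem_map_of_mem _ (hy1 i), fun h => hy2 i (hPc i.castSucc ▸ h)⟩) q (by omega)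
    have hjS : AlgebraicIndependent (ZMod q) fun i : {i : Fin l.length // i ≠ j} => y i.1 :=
      AlgebraicIndependent.of_comp f hj
    have h1 := ((hjS.map' hg').lift_cardinalMk_le_trdeg).trans (Cardinal.lift_le.mpr htr)
    rw [Cardinal.mk_fintype, Cardinal.lift_natCast, Cardinal.lift_natCast, Nat.cast_le, Fintype.card_subtype_compl,
      Fintype.card_fin, Fintype.card_subtype_eq] at h1
    omega
  refine lt_of_le_of_lt (iSup_le fun l => ?_) (WithBot.coe_lt_coe.mpr (ENat.natCast_lt_top (t.card + 1)))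
  exact WithBot.coe_le_coe.mpr (Nat.cast_le.mpr (hb l))

end FiniteDim

section Semilocal

variable (R : Type v) [CommRing R] [IsDomain R] (L : Type u) [Field L] [Algebra R L] [IsFractionRing R L]

/-- A semilocal Prüfer domain is an intersection of finitely many valuation rings of its fraction field. -/
theorem exists_valuationSubrings (hR : ∀ (p : Ideal R) [p.IsPrime], ValuationRing (Localization.AtPrime p)) :
    ∃ V : MaximalSpectrum R → ValuationSubring L, ∀ x, x ∈ (algebraMap R L).range ↔ ∀ P, x ∈ V P := by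
  let A : MaximalSpectrum R → Subalgebra R L := fun P =>
    Localization.subalgebra.ofField L _ P.asIdeal.primeCompl_le_nonZeroDivisors
  have hA : ∀ P x, x ∈ A P ∨ x⁻¹ ∈ A P := fun P x => by
    haveI := P.isMaximal
    haveI := hR P.asIdeal
    haveI : IsLocalization P.asIdeal.primeCompl (A P) := Localization.subalgebra.isLocalization_ofField _ _ _
    haveI : ValuationRing (A P) := Function.Surjective.valuationRing
      (IsLocalization.algEquiv P.asIdeal.primeCompl (Localization.AtPrime P.asIdeal) (A P)).toRingEquiv.toRingHom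
      (IsLocalization.algEquiv P.asIdeal.primeCompl (Localization.AtPrime P.asIdeal) (A P)).surjective
    rcases ValuationRing.isInteger_or_isInteger (A P) x with ⟨a, ha⟩ | ⟨a, ha⟩
    · exact Or.inl (ha ▸ a.2)
    · exact Or.inr (ha ▸ a.2)
  refine ⟨fun P => { (A P).toSubring with mem_or_inv_mem' := hA P }, fun x => ?_⟩
  rw [RingHom.mem_range]
  refine Iff.trans ?_ ((Iff.of_eq (congrArg (x ∈ ·) (MaximalSpectrum.iInf_localization_eq_bot R L))).symm.trans Algebra.mem_iInf)
  exact Algebra.mem_bot.symm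

end Semilocal

end Groth.L05.Prufer
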