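import Groth.Agent.L05.Prufer.Sheaf
import Groth.Agent.L16.ProjSpace.SerreVanishing
import Groth.Agent.L16.ProjSpace.Basic
import Groth.Agent.L16.ProjSpace.QuotTwist
import Groth.Agent.L16.Existence.AmpleVanish
import Groth.Agent.L29.DCoh.TensorPerfect
import Groth.Agent.L18.LocFreeFP
import Groth.Agent.L17.AffinePush
import Groth.Agent.L17.ProjFormula
import Groth.Agent.L16.HomSh.FullyFaithful
import Groth.Agent.L29.DCoh.Flat

/-!
# Serre vanishing over semilocal Prüfer domains
-/

set_option autoImplicit false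
set_option linter.style.haveILetI false
set_option backward.isDefEq.respectTransparency false
set_option backward.isDefEq.respectTransparency.types false

universe u

open CategoryTheory CategoryTheory.Limits AlgebraicGeometry Opposite TopologicalSpace

noncomputable section

namespace Groth.L05.Prufer

open Groth.L16
open Groth.L16.ProjSpace (exists_mem_basicOpen_X X_mem subsingleton_of_iso subsingleton_sigma isFlat_twistProjSpace
  subsingleton_HH_of_lt subsingleton_HH_twist)

variable {n : ℕ} {R : Type u} [CommRing R] [IsDomain R]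

theorem isCoherentScheme_projSpace (hR : IsSemilocalPrufer R) : IsCoherentScheme (CohB1.ProjSpace n R) :=
  isCoherentScheme hR (CohB1.ProjSpace.toSpec n R)

/-- Serre vanishing on `ℙⁿ_R` in one degree. -/
theorem exists_vanishing_aux (hR : IsSemilocalPrufer R) (M : (CohB1.ProjSpace n R).Modules) (hM : CohB1.IsFP M)
    (q : ℕ) (hq : 0 < q) :
    ∃ d₀ : ℕ, ∀ d : ℕ, d₀ ≤ d →
      Subsingleton (Coh.HH (CohB1.ProjSpace n R) (CohB1.tensorMod (Twist.twistProjSpace n R (d : ℤ)) M) q) := by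
  obtain ⟨k, hk⟩ : ∃ k, n + 1 ≤ q + k := ⟨n + 1, by omega⟩
  induction k generalizing q M with
  | zero =>
    refine ⟨0, fun d _ => ?_⟩
    haveI : Coh.IsQCoh M := isQCoh_of_isFP hM
    haveI : Coh.IsQCoh (Twist.twistProjSpace n R (d : ℤ)) := ProjTwist.isQCoh_twist (CohB1.polyGrading n R) d
    haveI := Groth.L00.Tensor.isQCoh_tensorMod (Twist.twistProjSpace n R (d : ℤ)) M
    exact subsingleton_HH_of_lt n R _ q (by omega)
  | succ k ih =>
    haveI : Coh.IsQCoh M := isQCoh_of_isFP hM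
    let f : ULift.{u} (Fin (n + 1)) → (CohB1.polyGrading n R) 1 := fun i => ⟨MvPolynomial.X i.down, X_mem n R i.down⟩
    have hf : ∀ x : Proj (CohB1.polyGrading n R), ∃ i, x ∈ Proj.basicOpen (CohB1.polyGrading n R) (f i).1 := fun x => by
      obtain ⟨i, hi⟩ := exists_mem_basicOpen_X n R x
      exact ⟨⟨i⟩, hi⟩
    obtain ⟨n₀, h⟩ := @ProjTwist.exists_epi_neg_twists _ _ _ _ _ (CohB1.polyGrading n R) _ 1 _ f inferInstance
      Nat.one_pos hf M inferInstance (haveI : SheafOfModules.IsFinitePresentation (R := (CohB1.ProjSpace n R).ringCatSheaf) M := hM; inferInstance)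
    obtain ⟨r, p, hp⟩ := h n₀ le_rfl
    let E : (CohB1.ProjSpace n R).Modules := ∐ fun _ : Fin r => Twist.twistProjSpace n R (-((n₀ * 1 : ℕ) : ℤ))
    have hE : CohB1.IsFP E := Groth.L18.LFP.isFP_of_isFinLocFree _
      (Groth.L29.DC.isFinLocFree_coprod_fin r _ fun _ => Groth.L16.Existence.isFinLocFree_of_isInvertible
        (ProjTwist.isInvertible_twistProjSpace n R _))
    let S : ShortComplex (CohB1.ProjSpace n R).Modules :=
      ShortComplex.mk (kernel.ι (show E ⟶ M from p)) p (kernel.condition _)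
    have hS : S.ShortExact :=
      { exact := ShortComplex.exact_kernel _
        epi_g := hp }
    obtain ⟨d₁, h₁⟩ := ih S.X₁ (isFP_kernel (isCoherentScheme_projSpace hR) hE hM _) (q + 1) (by omega) (by omega)
    refine ⟨max d₁ (n₀ * 1), fun e he => ?_⟩
    let T := (DCoh.tensorBi (X := CohB1.ProjSpace n R)).obj (Twist.twistProjSpace n R (e : ℤ))
    have hT : (S.map T).ShortExact := FrameIso.shortExact_tensor_left (isFlat_twistProjSpace n R e) S hS
    haveI : Subsingleton (Coh.HH (CohB1.ProjSpace n R) (S.map T).X₁ (q + 1)) := h₁ e (le_of_max_le_left he)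
    haveI : Subsingleton (Coh.HH (CohB1.ProjSpace n R) (S.map T).X₂ q) := by
      haveI := Groth.L00.Tensor.preservesColimits_tensorLeftF (Twist.twistProjSpace n R (e : ℤ))
      haveI : PreservesColimitsOfSize.{0, 0} (Groth.L00.Tensor.tensorLeftF (Twist.twistProjSpace n R (e : ℤ))) :=
        preservesColimitsOfSize_shrink.{0, u, 0, u} _
      let Tl := Groth.L00.Tensor.tensorLeftF (Twist.twistProjSpace n R (e : ℤ))
      have h0 : Subsingleton (Coh.HH (CohB1.ProjSpace n R)
          (∐ fun _ : Fin r => CohB1.tensorMod (Twist.twistProjSpace n R (e : ℤ))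
            (Twist.twistProjSpace n R (-((n₀ * 1 : ℕ) : ℤ)))) q) := by
        refine subsingleton_sigma _ q fun _ => ?_
        obtain ⟨e'⟩ := ProjTwist.nonempty_tensor_twist_iso_one (CohB1.polyGrading n R) (fun x => by
          obtain ⟨i, hi⟩ := exists_mem_basicOpen_X n R x
          exact ⟨⟨_, X_mem n R i⟩, hi⟩) (e : ℤ) (-((n₀ * 1 : ℕ) : ℤ))
        have hv : Subsingleton (Coh.HH (CohB1.ProjSpace n R)
            (Twist.twistProjSpace n R ((e : ℤ) + -((n₀ * 1 : ℕ) : ℤ))) q) :=
          subsingleton_HH_twist n R _ q (fun h => by omega) (fun h => by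
            have := h.2
            have := le_of_max_le_right he
            omega)
        exact subsingleton_of_iso e' q hv
      let iso : (S.map T).X₂ ≅ ∐ fun _ : Fin r => CohB1.tensorMod (Twist.twistProjSpace n R (e : ℤ))
            (Twist.twistProjSpace n R (-((n₀ * 1 : ℕ) : ℤ))) :=
        PreservesCoproduct.iso Tl (fun _ : Fin r => Twist.twistProjSpace n R (-((n₀ * 1 : ℕ) : ℤ)))
      exact subsingleton_of_iso iso q h0
    refine subsingleton_of_forall_eq 0 fun x => ?_
    obtain ⟨y, hy⟩ := (CohLinear.exact_hmap_delta hT q x).1 (Subsingleton.elim _ _)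
    exact hy.symm.trans ((congrArg _ (Subsingleton.elim y 0)).trans (map_zero _))

/-- Serre vanishing on `ℙⁿ_R`. -/
theorem exists_vanishing (hR : IsSemilocalPrufer R) (M : (CohB1.ProjSpace n R).Modules) (hM : CohB1.IsFP M) :
    ∃ d₀ : ℕ, ∀ d : ℕ, d₀ ≤ d → ∀ q : ℕ, 0 < q →
      Subsingleton (Coh.HH (CohB1.ProjSpace n R) (CohB1.tensorMod (Twist.twistProjSpace n R (d : ℤ)) M) q) := by
  choose f hf using fun j : Fin n => exists_vanishing_aux hR M hM (j.1 + 1) (Nat.succ_pos _)
  refine ⟨Finset.univ.sup f, fun d hd q hq => ?_⟩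
  by_cases hqn : q ≤ n
  · obtain ⟨j, rfl⟩ : ∃ j : Fin n, q = j.1 + 1 := ⟨⟨q - 1, by omega⟩, by simp only; omega⟩
    exact hf j d ((Finset.le_sup (Finset.mem_univ j)).trans hd)
  · haveI : Coh.IsQCoh M := isQCoh_of_isFP hM
    haveI : Coh.IsQCoh (Twist.twistProjSpace n R (d : ℤ)) := ProjTwist.isQCoh_twist (CohB1.polyGrading n R) d
    haveI := Groth.L00.Tensor.isQCoh_tensorMod (Twist.twistProjSpace n R (d : ℤ)) M
    exact subsingleton_HH_of_lt n R _ q (by omega)

variable {X : Scheme.{u}} (ι : X ⟶ CohB1.ProjSpace n R) [IsClosedImmersion ι]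

/-- Serre vanishing on a flat closed subscheme of projective space. -/
theorem exists_vanishing_closedSubscheme (hR : IsSemilocalPrufer R) [Flat (ι ≫ CohB1.ProjSpace.toSpec n R)]
    (F : X.Modules) (hF : CohB1.IsFP F) :
    ∃ N : ℕ, ∀ k : ℕ, N ≤ k → ∀ q : ℕ, 0 < q →
      Subsingleton (Coh.HH X (CohB1.tensorMod F
        (CohB1.tensorPow ((Scheme.Modules.pullback ι).obj (Twist.twistProjSpace n R 1)) k)) q) := by
  haveI : Coh.IsQCoh F := isQCoh_of_isFP hF
  have hpush := isFP_push hR (ι ≫ CohB1.ProjSpace.toSpec n R) (CohB1.ProjSpace.toSpec n R) ι rfl hF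
  obtain ⟨N, hN⟩ := exists_vanishing hR _ hpush
  refine ⟨N, fun k hk q hq => ?_⟩
  let O := Twist.twistProjSpace n R (k : ℤ)
  have hO : FlatMod.IsFinLocFree O :=
    Groth.L16.Existence.isFinLocFree_of_isInvertible (ProjTwist.isInvertible_twistProjSpace n R (k : ℤ))
  obtain ⟨e₁⟩ := ProjTwist.nonempty_twist_iso_tensorPow (CohB1.polyGrading n R)
    (fun x => (exists_mem_basicOpen_X n R x).elim fun i hi => ⟨⟨_, X_mem n R i⟩, hi⟩) k
  let e₂ : CohB1.tensorMod ((Scheme.Modules.pullback ι).obj O) F ≅ CohB1.tensorMod F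
      (CohB1.tensorPow ((Scheme.Modules.pullback ι).obj (Twist.twistProjSpace n R 1)) k) :=
    Groth.L00.Tensor.tensorComm _ _ ≪≫ Groth.L00.Tensor.tensorIso (Iso.refl F)
      ((Scheme.Modules.pullback ι).mapIso e₁ ≪≫ Groth.L18.Ample.pullPow ι _ k)
  haveI : Coh.IsQCoh (CohB1.tensorMod ((Scheme.Modules.pullback ι).obj O) F) := by
    haveI : Coh.IsQCoh O := ProjTwist.isQCoh_twist (CohB1.polyGrading n R) k
    haveI := Groth.L16.AffineBC.isQCoh_pullback ι O
    exact Groth.L00.Tensor.isQCoh_tensorMod _ _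
  have h1 : Subsingleton (Coh.HH (CohB1.ProjSpace n R)
      ((Coh.push ι).obj (CohB1.tensorMod ((Scheme.Modules.pullback ι).obj O) F)) q) :=
    subsingleton_of_iso ((Groth.L17.ProjFormula.projIso ι O hO).app F).symm q (hN k hk q hq)
  obtain ⟨e₃⟩ := Groth.L17.nonempty_HH_push_of_isAffineHom ι
    (CohB1.tensorMod ((Scheme.Modules.pullback ι).obj O) F) q
  exact subsingleton_of_iso e₂.symm q (@Equiv.subsingleton _ _ e₃.toEquiv h1)

include ι in
omit [IsDomain R] in
/-- Vanishing above the dimension of projective space. -/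
theorem subsingleton_HH_closedSubscheme (F : X.Modules) [Coh.IsQCoh F] (q : ℕ) (hq : n < q) :
    Subsingleton (Coh.HH X F q) := by
  haveI : Coh.IsQCoh ((Scheme.Modules.pushforward ι).obj F) := Groth.L16.QcqsPush.isQCoh_push F ι
  obtain ⟨e⟩ := Groth.L17.nonempty_HH_push_of_isAffineHom ι F q
  exact @Equiv.subsingleton _ _ e.toEquiv (subsingleton_HH_of_lt n R _ q hq)

end Groth.L05.Prufer

namespace Groth.L05.Prufer

variable {n : ℕ} {R : Type u} [CommRing R] [IsDomain R] {X : Scheme.{u}} (ι : X ⟶ CohB1.ProjSpace n R)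
  [IsClosedImmersion ι]

open Groth.L16

/-- Twisted global sections of an epimorphism. -/
theorem exists_surjective_app (hR : IsSemilocalPrufer R) [Flat (ι ≫ CohB1.ProjSpace.toSpec n R)]
    {F G : X.Modules} (hF : CohB1.IsFP F) (hG : CohB1.IsFP G) (φ : F ⟶ G) [Epi φ] :
    ∃ N : ℕ, ∀ k : ℕ, N ≤ k → Function.Surjective ((Groth.L00.Tensor.tensorMap φ
      (𝟙 (CohB1.tensorPow ((Scheme.Modules.pullback ι).obj (Twist.twistProjSpace n R 1)) k))).app ⊤) := by
  let L := (Scheme.Modules.pullback ι).obj (Twist.twistProjSpace n R 1)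
  have hL : PicF.IsInvertible L :=
    Groth.L18.Ample.isInvertible_pullback ι (ProjTwist.isInvertible_twistProjSpace n R 1)
  let S : ShortComplex X.Modules := ShortComplex.mk (kernel.ι φ) φ (kernel.condition _)
  have hS : S.ShortExact :=
    { exact := ShortComplex.exact_kernel _ }
  obtain ⟨N, hN⟩ := exists_vanishing_closedSubscheme ι hR _
    (isFP_kernel (isCoherentScheme hR (ι ≫ CohB1.ProjSpace.toSpec n R)) hF hG φ)
  refine ⟨N, fun k hk => ?_⟩
  let Lk := CohB1.tensorPow L k
  have hfl : FlatMod.IsFlat Lk :=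
    Groth.L29.DC.isFlat_of_isFinLocFree
      (Groth.L16.Existence.isFinLocFree_of_isInvertible (Groth.L18.Ample.isInvertible_tensorPow hL k))
  let T := (DCoh.tensorBi (X := X)).obj Lk
  have hT : (S.map T).ShortExact := FrameIso.shortExact_tensor_left hfl S hS
  haveI : Subsingleton (Coh.HH X (S.map T).X₁ 1) :=
    Groth.L16.ProjSpace.subsingleton_of_iso (Groth.L00.Tensor.tensorComm _ _) 1 (hN k hk 1 Nat.one_pos)
  have hsurj : Function.Surjective (T.map φ |>.app ⊤) := by
    intro b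
    obtain ⟨b', rfl⟩ := (Groth.L16.HomSh.h0Equiv (T.obj G)).surjective b
    obtain ⟨a, ha⟩ := (CohLinear.exact_hmap_delta hT 0 b').1 (Subsingleton.elim _ _)
    refine ⟨Groth.L16.HomSh.h0Equiv (T.obj F) a, ?_⟩
    rw [← ha]
    exact (Groth.L16.HomSh.h0Equiv_map (T.map φ) a).symm
  have hnat : Groth.L00.Tensor.tensorMap φ (𝟙 Lk) =
      (Groth.L00.Tensor.tensorComm F Lk).hom ≫ T.map φ ≫ (Groth.L00.Tensor.tensorComm G Lk).inv := by
    rw [← Category.assoc, Iso.eq_comp_inv]
    show (Groth.L00.Tensor.shf X).map _ ≫ (Groth.L00.Tensor.shf X).map _ =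
      (Groth.L00.Tensor.shf X).map _ ≫ (Groth.L00.Tensor.shf X).map _
    rw [← Functor.map_comp, ← Functor.map_comp]
    congr 1
    exact BraidedCategory.braiding_naturality _ _
  intro b
  obtain ⟨a, ha⟩ := hsurj ((Groth.L00.Tensor.tensorComm G Lk).hom.app ⊤ b)
  refine ⟨(Groth.L00.Tensor.tensorComm F Lk).inv.app ⊤ a, ?_⟩
  rw [hnat]
  show (Groth.L00.Tensor.tensorComm G Lk).inv.app ⊤ ((T.map φ).app ⊤ ((Groth.L00.Tensor.tensorComm F Lk).hom.app ⊤
    ((Groth.L00.Tensor.tensorComm F Lk).inv.app ⊤ a))) = b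
  have h1 : (Groth.L00.Tensor.tensorComm F Lk).hom.app ⊤ ((Groth.L00.Tensor.tensorComm F Lk).inv.app ⊤ a) = a :=
    ConcreteCategory.congr_hom (congrArg (fun f => Scheme.Modules.Hom.app f ⊤)
      (Groth.L00.Tensor.tensorComm F Lk).inv_hom_id) a
  rw [h1, ha]
  exact ConcreteCategory.congr_hom (congrArg (fun f => Scheme.Modules.Hom.app f ⊤)
    (Groth.L00.Tensor.tensorComm G Lk).hom_inv_id) b

end Groth.L05.Prufer
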